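import Groth.Agent.Sga3.H816.AffFibStage
import Groth.Agent.Sga3B.BcIso
import Groth.Agent.Sga3C.GrpSep

/-!
# Noetherian models with affine fibres

`Model G`: the group scheme `G` over `Spec R` is the base change of a smooth quasi-compact group scheme with
geometrically irreducible fibres over a finitely generated ring. If the fibres of `G` are affine, then there is
a model with affine fibres.
-/

set_option autoImplicit false

universe u

open CategoryTheory MonoidalCategory CartesianMonoidalCategory MonObj GrpObj AlgebraicGeometry Limits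

namespace Groth.Agent.Sga3.H816.AffModel

open Groth.Agent.Sga3B Groth.Agent.Sga3.H816.AffFibStage

/-- The group scheme `G` over `Spec R` is the base change of a smooth quasi-compact group scheme with
geometrically irreducible fibres over a finitely generated ring. -/
def Model {R : Type u} [CommRing R] (G : Over (Spec (CommRingCat.of R))) [GrpObj G] : Prop :=
  ∃ (R₀ : Type u) (_ : CommRing R₀) (_ : Algebra.FiniteType ℤ R₀) (φ : R₀ →+* R)
    (G₀ : Over (Spec (CommRingCat.of R₀))) (_ : GrpObj G₀), Smooth G₀.hom ∧ QuasiCompact G₀.hom ∧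
    GeometricallyIrreducible G₀.hom ∧
    Nonempty (Grp.mk (Red.bc (Spec.map (CommRingCat.ofHom φ)) G₀) ≅ Grp.mk G)

lemma Fib.of_grpIso {S : Scheme.{u}} {G H : Over S} [GrpObj G] [GrpObj H] (e : Grp.mk G ≅ Grp.mk H)
    (h : Fib H.hom) : Fib G.hom := by
  let e' : G ≅ H := (Grp.forget _).mapIso e
  have h1 : IsPullback e'.hom.left G.hom H.hom (𝟙 S) :=
    IsPullback.of_horiz_isIso ⟨by rw [Over.w, Category.comp_id]⟩
  exact h.of_isPullback h1

/-- A group scheme with affine fibres which has a model has a model with affine fibres. -/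
theorem exists_model {R : Type u} [CommRing R] (G : Over (Spec (CommRingCat.of R))) [GrpObj G]
    (hG : Model G) (haff : Fib G.hom) :
    ∃ (R₀ : Type u) (_ : CommRing R₀) (_ : Algebra.FiniteType ℤ R₀) (φ : R₀ →+* R)
      (G₀ : Over (Spec (CommRingCat.of R₀))) (_ : GrpObj G₀), Smooth G₀.hom ∧ QuasiCompact G₀.hom ∧
      IsSeparated G₀.hom ∧ GeometricallyIrreducible G₀.hom ∧ Fib G₀.hom ∧
      Nonempty (Grp.mk (Red.bc (Spec.map (CommRingCat.ofHom φ)) G₀) ≅ Grp.mk G) := by
  obtain ⟨A₀, _, _, φ, G₀, _, h1, h2, h3, ⟨e⟩⟩ := hG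
  have h4 : IsSeparated G₀.hom := Groth.Agent.Sga3C.GrpSep.isSeparated G₀
  algebraize [φ]
  have h5 : Fib (pullback.snd G₀.hom (Spec.map (CommRingCat.ofHom (algebraMap A₀ R)))) :=
    Fib.of_grpIso (G := Red.bc (Spec.map (CommRingCat.ofHom φ)) G₀) e haff
  obtain ⟨A₁, h6, h7⟩ := exists_subalgebra G₀.hom h5
  let q : Spec (CommRingCat.of A₁) ⟶ Spec (CommRingCat.of A₀) :=
    Spec.map (CommRingCat.ofHom (algebraMap A₀ A₁))
  let ψ : A₁ →+* R := A₁.val.toRingHom
  have hψ : Spec.map (CommRingCat.ofHom ψ) ≫ q = Spec.map (CommRingCat.ofHom φ) := by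
    rw [← Spec.map_comp, ← CommRingCat.ofHom_comp]
    rfl
  refine ⟨A₁, inferInstance, Algebra.FiniteType.trans (S := A₀) inferInstance h6, ψ, Red.bc q G₀,
    inferInstance, ?_, ?_, ?_, ?_, h7, ?_⟩
  · exact inferInstanceAs (Smooth (pullback.snd G₀.hom q))
  · exact inferInstanceAs (QuasiCompact (pullback.snd G₀.hom q))
  · exact inferInstanceAs (IsSeparated (pullback.snd G₀.hom q))
  · exact inferInstanceAs (GeometricallyIrreducible (pullback.snd G₀.hom q))
  · exact ⟨(BcIso.bcCompIso _ q G₀).symm ≪≫ BcIso.bcCongrIso hψ G₀ ≪≫ e⟩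

end Groth.Agent.Sga3.H816.AffModel
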