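import Groth.Agent.Sga3.H816.LocusOpen
import Groth.Agent.Sga3B.AffineDimOne

/-!
# Openness of the reductive locus (affine fibres) and of the semisimple locus (quasi-finite homomorphism)

`S` locally noetherian, `G` smooth quasi-compact with connected fibres.
* `isOpen_reductive` : the fibres are affine;
* `isOpen_reductive_of_qf`, `isOpen_semisimple_of_qf` : there is a locally quasi-finite homomorphism from `G` to an
  affine group of finite type.
-/

set_option autoImplicit false
open CategoryTheory MonoidalCategory CartesianMonoidalCategory MonObj GrpObj AlgebraicGeometry CategoryTheory.Limits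
universe u

namespace Groth.Agent.Sga3.H816.LociMain

open Groth.Agent.Sga3.H816.RedFinite Groth.Agent.Sga3.H816.LocusOpen Groth.Agent.Sga3B.AffDvrBase789

variable {S : Scheme.{u}} [IsLocallyNoetherian S] (G : Over S) [GrpObj G] [Smooth G.hom] [QuasiCompact G.hom]
  (hconn : ∀ s : S, _root_.IsConnected (G.hom.base ⁻¹' {s}))

include hconn

omit [IsLocallyNoetherian S] in
theorem isAffine_bc_dvr (haff : ∀ s : S, IsAffine (pullback G.hom (S.fromSpecResidueField s)))
    (O : Type u) [CommRing O] [IsDomain O] [IsDiscreteValuationRing O] (t : Spec (CommRingCat.of O) ⟶ S) :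
    IsAffine (Red.bc t G).left := by
  have hgi : GeometricallyIrreducible G.hom :=
    @Groth.Agent.Sga3C.GrpIrr.geometricallyIrreducible_of_connected_fibres _ _ G.hom _
      (inferInstanceAs (GrpObj G)) hconn
  have := smooth_bc t G
  have := quasiCompact_bc t G
  have := geometricallyIrreducible_bc t G
  exact Groth.Agent.Sga3B.AffDvrGrp789.isAffine_dvr (Red.bc t G)
    (affFib_bc t G (Groth.Agent.Sga3.H804.DimOne.affFib_of_fibres G.hom haff))

/-- **Openness of the reductive locus**, affine fibres. -/
theorem isOpen_reductive [QuasiSeparated G.hom]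
    (haff : ∀ s : S, IsAffine (pullback G.hom (S.fromSpecResidueField s))) :
    IsOpen {s : S | Red.IsReductiveOver (AlgebraicClosure (S.residueField s)) (Red.geomFibre s G)} :=
  isOpen cond_reductive G hconn fun O _ _ _ t _ => isAffine_bc_dvr G hconn haff O t

/-- Openness of the reductive locus in the form of neighbourhoods. -/
theorem exists_open [QuasiSeparated G.hom]
    (haff : ∀ s : S, IsAffine (pullback G.hom (S.fromSpecResidueField s))) (s : S)
    (hs : Red.IsReductiveOver (AlgebraicClosure (S.residueField s)) (Red.geomFibre s G)) :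
    ∃ U : S.Opens, s ∈ U ∧ ∀ t ∈ U,
      Red.IsReductiveOver (AlgebraicClosure (S.residueField t)) (Red.geomFibre t G) :=
  ⟨⟨_, isOpen_reductive G hconn haff⟩, hs, fun _ ht => ht⟩

/-- Openness of the semisimple locus, affine fibres. -/
theorem isOpen_semisimple [QuasiSeparated G.hom]
    (haff : ∀ s : S, IsAffine (pullback G.hom (S.fromSpecResidueField s))) :
    IsOpen {s : S | Red.IsSemisimpleOver (AlgebraicClosure (S.residueField s)) (Red.geomFibre s G)} :=
  isOpen cond_semisimple G hconn fun O _ _ _ t _ => isAffine_bc_dvr G hconn haff O t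

omit hconn [IsLocallyNoetherian S] in
/-- Over a discrete valuation ring a group with a quasi-finite homomorphism to an affine group is affine. -/
theorem isAffine_bc_dvr_of_qf {H : Over S} [GrpObj H] [IsAffineHom H.hom] [LocallyOfFiniteType H.hom] (f : G ⟶ H)
    [IsMonHom f] [LocallyQuasiFinite f.left] [IsSeparated G.hom]
    (O : Type u) [CommRing O] [IsDomain O] [IsDiscreteValuationRing O] (t : Spec (CommRingCat.of O) ⟶ S) :
    IsAffine (Red.bc t G).left := by
  have h1 := smooth_bc t G
  have h2 := quasiCompact_bc t G
  have h3 : IsSeparated (Red.bc t G).hom := MorphismProperty.pullback_snd (P := @IsSeparated) _ _ inferInstance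
  have h4 : IsAffineHom (Red.bc t H).hom := MorphismProperty.pullback_snd (P := @IsAffineHom) _ _ inferInstance
  have h5 : LocallyOfFiniteType (Red.bc t H).hom :=
    MorphismProperty.pullback_snd (P := @LocallyOfFiniteType) _ _ inferInstance
  let F := (Over.pullback t).map f
  have hw : F.left ≫ (Red.bc t H).hom = (Red.bc t G).hom := Over.w F
  have h6 : QuasiCompact F.left := by
    have : QuasiCompact (F.left ≫ (Red.bc t H).hom) := by rw [hw]; infer_instance
    exact QuasiCompact.of_comp F.left (Red.bc t H).hom
  have h7 : IsSeparated F.left := by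
    have : IsSeparated (F.left ≫ (Red.bc t H).hom) := by rw [hw]; infer_instance
    exact IsSeparated.of_comp F.left (Red.bc t H).hom
  have h8 : LocallyQuasiFinite F.left := by
    have hp : IsPullback (pullback.fst G.hom t) F.left f.left (pullback.fst H.hom t) := by
      have h2 : IsPullback (pullback.fst G.hom t) (F.left ≫ (Red.bc t H).hom) (f.left ≫ H.hom) t := by
        rw [Over.w, Over.w]
        exact IsPullback.of_hasPullback _ _
      exact IsPullback.of_bot h2 (pullback.lift_fst _ _ _).symm (IsPullback.of_hasPullback _ _)
    exact MorphismProperty.of_isPullback hp inferInstance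
  have hdim : topologicalKrullDim (Spec (CommRingCat.of O)) ≤ 1 := by
    change topologicalKrullDim (PrimeSpectrum O) ≤ ((1 : ℕ) : WithBot ℕ∞)
    rw [PrimeSpectrum.topologicalKrullDim_eq_ringKrullDim, ← Ring.krullDimLE_iff]
    infer_instance
  have hLN : IsLocallyNoetherian (Spec (CommRingCat.of O)) :=
    (isLocallyNoetherian_Spec (R := CommRingCat.of O)).mpr (inferInstanceAs (IsNoetherianRing O))
  have h9 : IsAffineHom F.left := Groth.Agent.Sga3B.AffineDimOne.isAffineHom_of_quasiFinite hdim
    (Red.bc t G) (Red.bc t H) F
  have h10 : IsAffineHom (F.left ≫ (Red.bc t H).hom) := inferInstance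
  rw [hw] at h10
  exact isAffine_of_isAffineHom (Red.bc t G).hom

/-- **Openness of the semisimple locus**, in the presence of a quasi-finite homomorphism to an affine group. -/
theorem isOpen_semisimple_of_qf {H : Over S} [GrpObj H] [IsAffineHom H.hom] [LocallyOfFiniteType H.hom] (f : G ⟶ H)
    [IsMonHom f] [LocallyQuasiFinite f.left] [IsSeparated G.hom] :
    IsOpen {s : S | Red.IsSemisimpleOver (AlgebraicClosure (S.residueField s)) (Red.geomFibre s G)} :=
  isOpen cond_semisimple G hconn fun O _ _ _ t _ => isAffine_bc_dvr_of_qf G f O t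

/-- Openness of the reductive locus, in the presence of a quasi-finite homomorphism to an affine group. -/
theorem isOpen_reductive_of_qf {H : Over S} [GrpObj H] [IsAffineHom H.hom] [LocallyOfFiniteType H.hom] (f : G ⟶ H)
    [IsMonHom f] [LocallyQuasiFinite f.left] [IsSeparated G.hom] :
    IsOpen {s : S | Red.IsReductiveOver (AlgebraicClosure (S.residueField s)) (Red.geomFibre s G)} :=
  isOpen cond_reductive G hconn fun O _ _ _ t _ => isAffine_bc_dvr_of_qf G f O t

end Groth.Agent.Sga3.H816.LociMain
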