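import Groth.Agent.Flat2G.ApproxFactor
import Groth.Agent.Ega43.ResSysSch
import Groth.Agent.Ega43.LimCompare
import Groth.Agent.Etbase.FpqcDescent

/-!
# Morphisms with affine fibres: ind-constructibility and approximation

* `Fib f`: all fibres of `f` are affine;
* `Fib.of_isPullback`;
* `exists_constructible`: the set of points with affine fibre is ind-constructible;
* `exists_subalgebra`: if `X` is finitely presented over `A₀` and the fibres of `X ⊗ A` over `A` are affine, then there
  is a finite type sub-`A₀`-algebra `A₁` of `A` such that the fibres of `X ⊗ A₁` over `A₁` are affine.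
-/

set_option autoImplicit false

universe u

open CategoryTheory AlgebraicGeometry Limits Topology PrimeSpectrum

namespace Groth.Agent.Sga3.H816.AffFibStage

open Groth.Agent.Ega43.Locus Groth.Agent.Ega43.ResSysSch

section factor

variable {A₀ A : Type u} [CommRing A₀] [CommRing A] [Algebra A₀ A]

open Groth.Agent.Flat2G.ApproxFactor

/-- Compactness of the constructible topology: if `Spec A → Spec A₀` lands in an ind-constructible set, so does
`Spec A₁ → Spec A₀` for some finite type sub-`A₀`-algebra `A₁` of `A`. -/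
theorem exists_finiteType_factor (G : Set (PrimeSpectrum A₀))
    (hG : ∀ p ∈ G, ∃ V : Set (PrimeSpectrum A₀), IsConstructible V ∧ p ∈ V ∧ V ⊆ G)
    (hA : ∀ q : PrimeSpectrum A, comap (algebraMap A₀ A) q ∈ G) :
    ∃ A₁ : Subalgebra A₀ A, Algebra.FiniteType A₀ A₁ ∧ ∀ q : PrimeSpectrum A₁, comap (algebraMap A₀ A₁) q ∈ G := by
  classical
  choose! C hCc hCm hCG using hG
  let c := algebraMap A₀ A
  have hopen : ∀ p ∈ G, IsOpen[constructibleTopology (PrimeSpectrum A)] (comap c ⁻¹' C p) :=
    fun p hp => isOpen_of_isConstructible (isConstructible_preimage c (hCc p hp))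
  have hcomp : @IsCompact _ (constructibleTopology (PrimeSpectrum A)) Set.univ := by
    have h : @CompactSpace _ (constructibleTopology (PrimeSpectrum A)) :=
      @Function.Surjective.compactSpace (WithConstructibleTopology (PrimeSpectrum A)) (PrimeSpectrum A) _
        (constructibleTopology (PrimeSpectrum A)) _ (WithTopology.continuous_ofTopology _) inferInstance
        (WithTopology.ofTopology_surjective _)
    exact @isCompact_univ _ (constructibleTopology (PrimeSpectrum A)) h
  obtain ⟨t, ht⟩ := @IsCompact.elim_finite_subcover _ (constructibleTopology (PrimeSpectrum A)) _ _ hcomp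
    (fun p : G => comap c ⁻¹' C p) (fun p => hopen p p.2) (by
      intro q _
      exact Set.mem_iUnion.mpr ⟨⟨_, hA q⟩, hCm _ (hA q)⟩)
  have hE : IsConstructible (⋃ p ∈ t, C (p : PrimeSpectrum A₀)) :=
    IsConstructible.biUnion t.finite_toSet (fun p _ => hCc p p.2)
  obtain ⟨s, hs⟩ := constructible (A := A) hE.compl (by
    rw [Set.eq_empty_iff_forall_notMem]
    intro q hq
    obtain ⟨p, hp, hq'⟩ := Set.mem_iUnion₂.mp (ht (Set.mem_univ q))
    exact hq (Set.mem_iUnion₂.mpr ⟨p, hp, hq'⟩))
  refine ⟨Algebra.adjoin A₀ (s : Set A), ?_, ?_⟩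
  · exact (Subalgebra.fg_iff_finiteType _).mp ⟨s, rfl⟩
  · intro q
    have h := hs (Algebra.adjoin A₀ (s : Set A)) Algebra.subset_adjoin
    by_contra hq
    rw [Set.eq_empty_iff_forall_notMem] at h
    refine h q (fun hE => hq ?_)
    obtain ⟨p, hp, hq'⟩ := Set.mem_iUnion₂.mp hE
    exact hCG p p.2 hq'

end factor

/-- All fibres of `f` are affine. -/
def Fib {X S : Scheme.{u}} (f : X ⟶ S) : Prop :=
  ∀ s : S, IsAffine (pullback f (S.fromSpecResidueField s))


theorem fpqcInv : FpqcInv @IsAffineHom.{u} := FpqcInv.of_descendsAlong _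

/-- The relation with the fibrewise locus. -/
theorem mem_locus_iff {X S : Scheme.{u}} (f : X ⟶ S) (s : S) :
    s ∈ locus @IsAffineHom f (𝟙 S) ↔ IsAffine (pullback f (S.fromSpecResidueField s)) := by
  have h1 : IsPullback (S.fromSpecResidueField s) (𝟙 _) (𝟙 S) (S.fromSpecResidueField s) :=
    IsPullback.of_vert_isIso ⟨by simp⟩
  rw [mem_locus_iff_of_isPullback (P := @IsAffineHom) h1 (IsPullback.of_hasPullback f (S.fromSpecResidueField s))]
  constructor
  · intro h
    exact isAffine_of_isAffineHom (pullback.snd f (S.fromSpecResidueField s))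
  · intro h
    infer_instance

theorem fib_iff {X S : Scheme.{u}} (f : X ⟶ S) : Fib f ↔ locus @IsAffineHom f (𝟙 S) = Set.univ := by
  rw [Set.eq_univ_iff_forall]
  exact forall_congr' fun s => (mem_locus_iff f s).symm

/-- The fibres of a base change are affine iff the map to the base lands in the affine fibre locus. -/
theorem fib_iff_of_isPullback {X S X' S' : Scheme.{u}} {f : X ⟶ S} {g : X' ⟶ X} {f' : X' ⟶ S'} {h : S' ⟶ S}
    (H : IsPullback g f' f h) : Fib f' ↔ ∀ s : S', h s ∈ locus @IsAffineHom f (𝟙 S) := by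
  have h1 : IsPullback h (𝟙 S') (𝟙 S) h := IsPullback.of_vert_isIso ⟨by simp⟩
  rw [fib_iff, locus_eq_preimage fpqcInv h1 H, Set.eq_univ_iff_forall]
  rfl

theorem Fib.of_isPullback {X S X' S' : Scheme.{u}} {f : X ⟶ S} {g : X' ⟶ X} {f' : X' ⟶ S'}
    {h : S' ⟶ S} (hf : Fib f) (H : IsPullback g f' f h) : Fib f' := by
  rw [fib_iff_of_isPullback H]
  intro s
  rw [(fib_iff f).mp hf]
  trivial

theorem Fib.snd {X S S' : Scheme.{u}} {f : X ⟶ S} (hf : Fib f) (h : S' ⟶ S) : Fib (pullback.snd f h) :=
  hf.of_isPullback (IsPullback.of_hasPullback f h)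

/-- The set of points with affine fibre is ind-constructible. -/
theorem exists_constructible {R : Type u} [CommRing R] {X : Scheme.{u}} (f : X ⟶ Spec (.of R))
    [LocallyOfFinitePresentation f] [QuasiCompact f] [QuasiSeparated f] (p : PrimeSpectrum R)
    (hp : p ∈ locus @IsAffineHom f (𝟙 _)) :
    ∃ V : Set (PrimeSpectrum R), IsConstructible V ∧ p ∈ V ∧ V ⊆ locus @IsAffineHom f (𝟙 _) :=
  exists_subset_locus f (𝟙 _) (Descends.descRow Groth.Agent.Ega43.LimCompare.descends_isAffineHom) p hp

/-- Approximation of schemes with affine fibres. -/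
theorem exists_subalgebra {A₀ A : Type u} [CommRing A₀] [CommRing A] [Algebra A₀ A] {X : Scheme.{u}}
    (f : X ⟶ Spec (.of A₀)) [LocallyOfFinitePresentation f] [QuasiCompact f] [QuasiSeparated f]
    (h : Fib (pullback.snd f (Spec.map (CommRingCat.ofHom (algebraMap A₀ A))))) :
    ∃ A₁ : Subalgebra A₀ A, Algebra.FiniteType A₀ A₁ ∧
      Fib (pullback.snd f (Spec.map (CommRingCat.ofHom (algebraMap A₀ A₁)))) := by
  rw [fib_iff_of_isPullback (IsPullback.of_hasPullback _ _)] at h
  obtain ⟨A₁, h1, h2⟩ := exists_finiteType_factor (A := A) (locus @IsAffineHom f (𝟙 _))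
    (exists_constructible f) h
  refine ⟨A₁, h1, ?_⟩
  rw [fib_iff_of_isPullback (IsPullback.of_hasPullback _ _)]
  exact h2

end Groth.Agent.Sga3.H816.AffFibStage
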