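import Groth.Agent.Sga3.H816.TorusDim
import Groth.Agent.Sga3B.FibreTorus
import Groth.Agent.Sga3B.AffHopf
import Groth.Prelude.Def_SGA3x
import Mathlib.AlgebraicGeometry.AlgClosed.Basic

/-!
# The locus where the reductive rank of the geometric fibres is at least `n`
-/

set_option autoImplicit false

open CategoryTheory MonoidalCategory CartesianMonoidalCategory AlgebraicGeometry Limits Opposite
open TensorProduct WithConv
open scoped MonObj
open Groth.Agent.Sga3B Groth.Agent.Sga3B.HaarDef Groth.Agent.Sga3B.AffTest Groth.Agent.Sga3B.PtData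
open Groth.Agent.Sga3B.TorusLie Groth.Agent.Sga3B.TorusNbhd
open Groth.Agent.Sga3B.TorusWt Groth.Agent.Sga3B.PtMor Groth.Agent.Sga3B.PtProp Groth.Agent.Sga3B.TorusRk
open Groth.Agent.Sga3B.MaxTorusCrit Groth.Agent.Sga3B.FibreTorus

namespace Groth.Agent.Sga3.H816.RedRank

noncomputable section

universe u

/-- Over an algebraically closed field, a group containing a split torus of rank `n` has a maximal torus
of rank at least `n`. -/
theorem exists_maximalTorus_ge {R C K : Type u} [CommRing R] [CommRing C] [HopfAlgebra R C]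
    [Algebra.FiniteType R C] [Field K] [IsAlgClosed K] [Algebra R K]
    {G : Over (Spec (CommRingCat.of K))} [GrpObj G] [IsAffine G.left] (PG : PtStr R C K G) {n : ℕ}
    (F₀ : WithConv (C →ₐ[R] MonoidAlgebra R (Multiplicative (Fin n → ℤ)) ⊗[R] K)) (hF₀ : IsHom F₀)
    (hm₀ : AMono F₀) :
    ∃ (r : ℕ) (i : Red.DS (Spec (CommRingCat.of K)) (Fin r → ℤ) ⟶ G), n ≤ r ∧ Red.IsMaximalTorus i := by
  obtain ⟨t, ht⟩ := (inferInstance : Algebra.FiniteType R C).out
  have hx : Algebra.adjoin R (Set.range (Subtype.val : t → C)) = ⊤ := by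
    rw [Subtype.range_coe]
    exact ht
  let S : Set ℕ := {r | ∃ F : WithConv (C →ₐ[R] MonoidAlgebra R (Multiplicative (Fin r → ℤ)) ⊗[R] K),
    IsHom F ∧ AMono F}
  have hS1 : S.Nonempty := ⟨0, 1, isHom_one, amono_one⟩
  have hS2 : BddAbove S := by
    refine ⟨Fintype.card t, ?_⟩
    rintro r ⟨F, hF, hm⟩
    exact rank_le_of_adjoin _ hx hF hm
  obtain ⟨F, hF, hm⟩ := Nat.sSup_mem hS1 hS2
  have : IsAffine (Red.DS (Spec (CommRingCat.of K)) (Fin (sSup S) → ℤ)).left := isAffine_left_of_isAffineHom _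
  obtain ⟨i, hi⟩ := exists_mor (dsStr R K (Fin (sSup S) → ℤ)) PG F
  refine ⟨sSup S, i, le_csSup hS2 ⟨F₀, hF₀, hm₀⟩, isMaximalTorus_of_corr PG hi hF hm ?_⟩
  intro s _ f hf r' F' χ hF' hm' _
  obtain ⟨g⟩ := exists_retraction s f hf
  exact le_csSup hS2 ⟨_, hF'.map g, amono_map hm' g⟩

/-- A subtorus over an algebraically closed field is given by a homomorphism from a split torus whose rank is
its dimension. -/
theorem exists_rank {R C K : Type u} [CommRing R] [CommRing C] [HopfAlgebra R C]
    [Field K] [IsAlgClosed K] [Algebra R K]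
    {G T : Over (Spec (CommRingCat.of K))} [GrpObj G] [GrpObj T] (PG : PtStr R C K G)
    (i : T ⟶ G) [IsMonHom i] [Mono i] (hT : Red.IsTorus T) :
    ∃ (r : ℕ) (F : WithConv (C →ₐ[R] MonoidAlgebra R (Multiplicative (Fin r → ℤ)) ⊗[R] K)),
      IsHom F ∧ AMono F ∧ topologicalKrullDim ↥T.left = (r : WithBot ℕ∞) := by
  obtain ⟨r, hr⟩ := TorusAlgClosed.exists_isSplitTorusWith hT
  have hd := TorusDim.topologicalKrullDim_of_split hr
  obtain ⟨e⟩ := hr
  have hTa : IsAffineHom T.hom := TorusAlgClosed.isAffineHom_of_isTorus hT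
  have : IsAffine T.left := isAffine_left_of_isAffineHom _
  let PT : PtStr R (MonoidAlgebra R (Multiplicative (Fin r → ℤ))) K T := (dsStr R K (Fin r → ℤ)).ofGrpIso e.symm
  obtain ⟨F, hF⟩ := exists_corr PT PG i
  exact ⟨r, F, isHom_of_isMonHom hF, amono_of_mono hF, hd⟩

/-- The condition at a geometric point in terms of the Hopf algebra. -/
theorem exists_hasRedRank_iff {S : Scheme.{u}} (G : Over S) [GrpObj G] [IsAffineHom G.hom]
    {R : Type u} [CommRing R] (j : Spec (CommRingCat.of R) ⟶ S)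
    {C : Type u} [CommRing C] [HopfAlgebra R C] [Algebra.FiniteType R C] (iC : sp R C ≅ Red.bc j G)
    [IsMonHom iC.hom] (s : S) [Algebra R (AlgebraicClosure (S.residueField s))]
    (hs : Red.geomPt s = q R (AlgebraicClosure (S.residueField s)) ≫ j) (n : ℕ) :
    (∃ r : WithBot ℕ∞, SGA3x.HasRedRank G s r ∧ (n : WithBot ℕ∞) ≤ r) ↔
    ∃ (r : ℕ) (F : WithConv (C →ₐ[R] MonoidAlgebra R (Multiplicative (Fin r → ℤ)) ⊗[R]
      AlgebraicClosure (S.residueField s))), n ≤ r ∧ IsHom F ∧ AMono F := by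
  obtain ⟨PK⟩ := AffHopf.exists_ptStr G j iC (AlgebraicClosure (S.residueField s)) (Red.geomPt s) hs
  have hGK : IsAffineHom (Red.geomFibre s G).hom := by
    show IsAffineHom (Limits.pullback.snd _ _)
    infer_instance
  have : IsAffine (Red.geomFibre s G).left := isAffine_left_of_isAffineHom _
  constructor
  · rintro ⟨r, ⟨T, _, i, hi, hr⟩, hn⟩
    obtain ⟨h1, h2, h3, -⟩ := hi
    obtain ⟨r', F, hF, hm, hd⟩ := exists_rank PK i h3
    refine ⟨r', F, ?_, hF, hm⟩
    rw [← hr, hd] at hn
    exact_mod_cast hn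
  · rintro ⟨r, F, hn, hF, hm⟩
    obtain ⟨r', i, hr', hi⟩ := exists_maximalTorus_ge PK F hF hm
    refine ⟨r', ⟨_, inferInstance, i, hi, TorusDim.topologicalKrullDim_DS _ r'⟩, ?_⟩
    exact_mod_cast hn.trans hr'

/-- lifting a geometric point to an affine open -/
theorem exists_ringHom {S : Scheme.{u}} {R : Type u} [CommRing R] (j : Spec (CommRingCat.of R) ⟶ S)
    [IsOpenImmersion j] (s : S) (hs : s ∈ Set.range j) :
    ∃ φ : R →+* AlgebraicClosure (S.residueField s), Red.geomPt s = Spec.map (CommRingCat.ofHom φ) ≫ j := by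
  have hrange : Set.range (Red.geomPt s) ⊆ Set.range j := by
    rintro _ ⟨x, rfl⟩
    have : Red.geomPt s x = s := by
      show (Spec.map _ ≫ S.fromSpecResidueField s) x = s
      rw [Scheme.Hom.comp_apply]
      exact Scheme.fromSpecResidueField_apply _ _
    rw [this]
    exact hs
  refine ⟨(Spec.preimage (IsOpenImmersion.lift j (Red.geomPt s) hrange)).hom, ?_⟩
  have h1 : Spec.map (CommRingCat.ofHom (Spec.preimage (IsOpenImmersion.lift j (Red.geomPt s) hrange)).hom) =
    IsOpenImmersion.lift j (Red.geomPt s) hrange := Spec.map_preimage _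
  rw [h1, IsOpenImmersion.lift_fac]

/-- A geometric point in the image of a morphism locally of finite type lifts. -/
theorem exists_lift {S X : Scheme.{u}} (h : X ⟶ S) [LocallyOfFiniteType h] (s : S) (hs : s ∈ Set.range h) :
    ∃ p : Spec (CommRingCat.of (AlgebraicClosure (S.residueField s))) ⟶ X, p ≫ h = Red.geomPt s := by
  obtain ⟨y, hy⟩ := hs
  obtain ⟨x⟩ : Nonempty (Spec (CommRingCat.of (AlgebraicClosure (S.residueField s)))) := inferInstance
  have hx : Red.geomPt s x = s := by
    show (Spec.map _ ≫ S.fromSpecResidueField s) x = s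
    rw [Scheme.Hom.comp_apply]
    exact Scheme.fromSpecResidueField_apply _ _
  obtain ⟨z, -, -⟩ := Scheme.Pullback.exists_preimage_pullback y x (hy.trans hx.symm)
  have : Nonempty ↥(pullback h (Red.geomPt s)) := ⟨z⟩
  have hlft : LocallyOfFiniteType (pullback.snd h (Red.geomPt s)) := inferInstance
  have : JacobsonSpace ↥(pullback h (Red.geomPt s)) :=
    LocallyOfFiniteType.jacobsonSpace (pullback.snd h (Red.geomPt s))
  obtain ⟨w, -, hw⟩ : (Set.univ ∩ closedPoints ↥(pullback h (Red.geomPt s))).Nonempty :=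
    nonempty_inter_closedPoints Set.univ_nonempty isOpen_univ.isLocallyClosed
  refine ⟨pointOfClosedPoint (pullback.snd h (Red.geomPt s)) w hw ≫ pullback.fst h (Red.geomPt s), ?_⟩
  rw [Category.assoc, pullback.condition, pointOfClosedPoint_comp_assoc]

/-- **The local statement**: the locus of geometric reductive rank at least `n` is a neighbourhood of each of its
points. -/
theorem exists_open_nhd {S : Scheme.{u}} (G : Over S) [GrpObj G] [IsAffineHom G.hom] [Smooth G.hom]
    {R : Type u} [CommRing R] (j : Spec (CommRingCat.of R) ⟶ S) [IsOpenImmersion j] (s₀ : S)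
    (hs₀ : s₀ ∈ Set.range j) (n : ℕ) (h : ∃ r : WithBot ℕ∞, SGA3x.HasRedRank G s₀ r ∧ (n : WithBot ℕ∞) ≤ r) :
    ∃ V : Set S, IsOpen V ∧ s₀ ∈ V ∧
      ∀ s ∈ V, ∃ r : WithBot ℕ∞, SGA3x.HasRedRank G s r ∧ (n : WithBot ℕ∞) ≤ r := by
  -- the Hopf algebra
  have hGj : IsAffineHom (Red.bc j G).hom := by
    show IsAffineHom (Limits.pullback.snd _ _)
    infer_instance
  have hGj' : Smooth (Red.bc j G).hom := by
    show Smooth (Limits.pullback.snd _ _)
    infer_instance
  have : IsAffine (Red.bc j G).left := isAffine_left_of_isAffineHom _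
  obtain ⟨C, _, _, iC, hiC⟩ := AffHopf.exists_hopf (Red.bc j G)
  have hsm : Algebra.Smooth R C := AffHopf.smooth_of_iso iC
  have hft : Algebra.FiniteType R C := Algebra.FiniteType.of_finitePresentation
  -- the torus in the fibre
  obtain ⟨φ, hφ⟩ := exists_ringHom j s₀ hs₀
  let : Algebra R (AlgebraicClosure (S.residueField s₀)) := φ.toAlgebra
  obtain ⟨r, F₀, hr, hF₀, hm₀⟩ := (exists_hasRedRank_iff G j iC s₀ hφ n).1 h
  -- a smooth neighbourhood
  obtain ⟨E, _, _, _, ρ, l, hρ1, hρ2, hgen⟩ := ComodGen.exists_comodule (R := R) (C := C)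
  obtain ⟨Q, _, _, U, g, hQ, hU, hg⟩ := TorusSmooth.exists_smooth_nbhd (ρ := ρ) ⟨hρ1, hρ2⟩ l hgen hF₀
  obtain ⟨b, hb, hb'⟩ := exists_unitGen_away U g (by rw [hg]; exact hm₀)
  have hQb : Algebra.Smooth R (Localization.Away b) := by
    have : Algebra.Smooth Q (Localization.Away b) := Algebra.Smooth.of_isLocalization_Away b
    exact Algebra.Smooth.comp R Q _
  have hQsm : Smooth (q R (Localization.Away b)) := by
    rw [HasRingHomProperty.Spec_iff (P := @Smooth)]
    exact RingHom.smooth_algebraMap.2 hQb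
  have hfs : Smooth (q R (Localization.Away b) ≫ j) := inferInstance
  let f : Q →ₐ[R] Localization.Away b := IsScalarTower.toAlgHom R Q (Localization.Away b)
  have hUb : UnitGen (pushG (HaarDef.T (MonoidAlgebra R (Multiplicative (Fin r → ℤ))) f) U) :=
    hb' _ f (IsLocalization.Away.algebraMap_isUnit b)
  have hUm : AMono (pushG (HaarDef.T (MonoidAlgebra R (Multiplicative (Fin r → ℤ))) f) U) := hUb.amono (hU.map f)
  refine ⟨Set.range (q R (Localization.Away b) ≫ j), (q R (Localization.Away b) ≫ j).isOpenMap.isOpen_range,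
    ?_, ?_⟩
  · -- the point `s₀`
    have hgu : ∀ y : Submonoid.powers b, IsUnit (g y) := by
      rintro ⟨_, k, rfl⟩
      show IsUnit (g (b ^ k))
      rw [map_pow]
      exact (isUnit_iff_ne_zero.2 hb).pow k
    let g' : Localization.Away b →ₐ[R] AlgebraicClosure (S.residueField s₀) :=
      IsLocalization.liftAlgHom (M := Submonoid.powers b) (f := g) hgu
    let k : Spec (CommRingCat.of (AlgebraicClosure (S.residueField s₀))) ⟶
      Spec (CommRingCat.of (Localization.Away b)) := Spec.map (CommRingCat.ofHom g'.toRingHom)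
    have hk : k ≫ q R (Localization.Away b) = q R (AlgebraicClosure (S.residueField s₀)) := by
      show Spec.map _ ≫ Spec.map _ = Spec.map _
      rw [← Spec.map_comp, ← CommRingCat.ofHom_comp]
      congr 2
      exact g'.comp_algebraMap
    obtain ⟨x⟩ : Nonempty (Spec (CommRingCat.of (AlgebraicClosure (S.residueField s₀)))) := inferInstance
    refine ⟨k x, ?_⟩
    rw [← Scheme.Hom.comp_apply, ← Category.assoc, hk]
    have h1 : q R (AlgebraicClosure (S.residueField s₀)) ≫ j = Red.geomPt s₀ := hφ.symm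
    rw [h1]
    show (Spec.map _ ≫ S.fromSpecResidueField s₀) x = s₀
    rw [Scheme.Hom.comp_apply]
    exact Scheme.fromSpecResidueField_apply _ _
  · intro s hs
    obtain ⟨p, hp⟩ := exists_lift (q R (Localization.Away b) ≫ j) s hs
    let ψ : Localization.Away b →+* AlgebraicClosure (S.residueField s) := (Spec.preimage p).hom
    have hψ : Spec.map (CommRingCat.ofHom ψ) = p := Spec.map_preimage _
    let : Algebra R (AlgebraicClosure (S.residueField s)) := (ψ.comp (algebraMap R (Localization.Away b))).toAlgebra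
    let ψ' : Localization.Away b →ₐ[R] AlgebraicClosure (S.residueField s) := { ψ with commutes' := fun _ => rfl }
    have hgeom : Red.geomPt s = q R (AlgebraicClosure (S.residueField s)) ≫ j := by
      rw [← hp, ← hψ, ← Category.assoc]
      congr 1
      show Spec.map _ ≫ Spec.map _ = Spec.map _
      rw [← Spec.map_comp, ← CommRingCat.ofHom_comp]
    exact (exists_hasRedRank_iff G j iC s hgeom n).2 ⟨r, _, hr, (hU.map f).map ψ', amono_map hUm ψ'⟩

/-- **The locus of geometric reductive rank at least `n` is open.** -/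
theorem isOpen_redRank_ge (S : Scheme.{u}) (G : Over S) [GrpObj G] [IsAffineHom G.hom] [Smooth G.hom] (n : ℕ) :
    IsOpen {s : S | ∃ r : WithBot ℕ∞, SGA3x.HasRedRank G s r ∧ (n : WithBot ℕ∞) ≤ r} := by
  rw [isOpen_iff_forall_mem_open]
  intro s₀ h
  obtain ⟨V, hV, hs₀V, -⟩ := exists_isAffineOpen_mem_and_subset (x := s₀) (U := ⊤) trivial
  have hr : Set.range hV.fromSpec = (V : Set S) := hV.range_fromSpec
  obtain ⟨W, hW, hs₀W, hWs⟩ := exists_open_nhd (R := Γ(S, V)) G
    (hV.fromSpec : Spec (CommRingCat.of Γ(S, V)) ⟶ S) s₀ (hr ▸ hs₀V) n h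
  exact ⟨W, fun s hs => hWs s hs, hW, hs₀W⟩

end

end Groth.Agent.Sga3.H816.RedRank
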