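import Groth.Agent.Sga3B.InfConjFam
import Groth.Agent.Sga3B.BcPts
import Mathlib.AlgebraicGeometry.Morphisms.Affine

/-!
# Affine neighbourhoods of the unit section exist Zariski-locally on the base
-/

set_option autoImplicit false

universe u

open CategoryTheory MonoidalCategory CartesianMonoidalCategory MonObj GrpObj AlgebraicGeometry Limits

namespace Groth.Agent.Sga3.H816.UnitLoc

open Groth.Agent.Sga3B Groth.Agent.Sga3B.InfConjFam

/-- The unit section of a base change. -/
lemma one_bc_left {S S' : Scheme.{u}} (x : S' ⟶ S) (Z : Over S) [GrpObj Z] :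
    (η[Red.bc x Z] : 𝟙_ (Over S') ⟶ Red.bc x Z).left ≫ pullback.fst Z.hom x =
      x ≫ (η[Z] : 𝟙_ (Over S) ⟶ Z).left := by
  have h1 : (1 : 𝟙_ (Over S') ⟶ Red.bc x Z) = BcPts.bcEquiv x _ Z 1 :=
    (BcPts.bcEquiv_one x).symm
  rw [MonObj.one_eq_one, h1]
  have h2 : (BcPts.bcEquiv x (𝟙_ (Over S')) Z 1).left ≫ pullback.fst Z.hom x =
      (1 : (Over.map x).obj (𝟙_ (Over S')) ⟶ Z).left := by
    simp only [BcPts.bcEquiv, Over.mapPullbackAdj, Adjunction.mkOfHomEquiv_homEquiv]
    exact pullback.lift_fst _ _ _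
  rw [h2]
  have h3 : (1 : (Over.map x).obj (𝟙_ (Over S')) ⟶ Z) =
      (Over.homMk x (by simp) : (Over.map x).obj (𝟙_ (Over S')) ⟶ 𝟙_ (Over S)) ≫ η[Z] := by
    rw [MonObj.one_eq_one, MonObj.comp_one]
  rw [h3]
  rfl

/-- If an affine open of `G` contains the unit sections over the image of the affine morphism `x`, then the base
change of `G` along `x` has an affine neighbourhood of the unit section. -/
theorem hasAffineUnitNhd_bc {S S' : Scheme.{u}} (x : S' ⟶ S) [IsAffineHom x] (G : Over S) [GrpObj G]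
    (W : G.left.Opens) (hW : IsAffineOpen W) (h : ∀ s : S', (η[G] : 𝟙_ (Over S) ⟶ G).left (x s) ∈ W) :
    HasAffineUnitNhd (Red.bc x G) := by
  let p : (Red.bc x G).left ⟶ G.left := pullback.fst G.hom x
  have hp : IsAffineHom p := MorphismProperty.pullback_fst _ _ inferInstance
  have hW' : IsAffineOpen (p ⁻¹ᵁ W) := hW.preimage p
  refine ⟨Γ((Red.bc x G).left, p ⁻¹ᵁ W), hW'.fromSpec, hW'.isOpenImmersion_fromSpec, ?_⟩
  rw [hW'.range_fromSpec]
  rintro _ ⟨z, rfl⟩
  change p _ ∈ W
  rw [← Scheme.Hom.comp_apply, one_bc_left]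
  exact h z

/-- Stability under affine base change. -/
theorem HasAffineUnitNhd.bc {S S' : Scheme.{u}} (x : S' ⟶ S) [IsAffineHom x] (G : Over S) [GrpObj G]
    (h : HasAffineUnitNhd G) : HasAffineUnitNhd (Red.bc x G) := by
  obtain ⟨D, j, hj, hD⟩ := h
  have h1 : IsAffineOpen j.opensRange := isAffineOpen_opensRange j
  exact hasAffineUnitNhd_bc x G j.opensRange h1 (fun s => hD ⟨x s, rfl⟩)

/-- Zariski locally on an affine base the unit section has an affine open neighbourhood. -/
theorem exists_away {B : Type u} [CommRing B] (G : Over (Spec (CommRingCat.of B))) [GrpObj G]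
    (s : PrimeSpectrum B) : ∃ f : B, f ∉ s.asIdeal ∧
      HasAffineUnitNhd (Red.bc (Spec.map (CommRingCat.ofHom (algebraMap B (Localization.Away f)))) G) := by
  let e : Spec (CommRingCat.of B) ⟶ G.left := (η[G] : 𝟙_ _ ⟶ G).left
  obtain ⟨W, hW, hsW, -⟩ := exists_isAffineOpen_mem_and_subset (show e s ∈ (⊤ : G.left.Opens) from trivial)
  have h1 : @IsOpen (PrimeSpectrum B) _ (e ⁻¹' (W : Set G.left)) := W.isOpen.preimage e.continuous
  obtain ⟨_, ⟨f, rfl⟩, hsf, hf⟩ := PrimeSpectrum.isTopologicalBasis_basic_opens.exists_subset_of_mem_open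
    (show s ∈ _ from hsW) h1
  refine ⟨f, hsf, ?_⟩
  refine hasAffineUnitNhd_bc _ G W hW fun z => ?_
  have h2 : Spec.map (CommRingCat.ofHom (algebraMap B (Localization.Away f))) z ∈
      (PrimeSpectrum.basicOpen f : Set (PrimeSpectrum B)) := by
    rw [← PrimeSpectrum.localization_away_comap_range (Localization.Away f) f]
    exact ⟨z, rfl⟩
  exact hf h2

end Groth.Agent.Sga3.H816.UnitLoc
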