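import Groth.Agent.Sga3.H816.HomTorAsm
import Groth.Agent.Sga3.H806.ApproxConn

/-!
# S4138 from the split case

`models`: noetherian models exist (helper806's approximation of group schemes with connected fibres).
`of_splitCase`: `Hom_{S-gr}(T, G)` is representable for `G` smooth, quasi-compact, quasi-separated with affine fibres
and `T` a torus, if `SplitCase` holds.
-/

set_option autoImplicit false

universe u

open CategoryTheory MonoidalCategory CartesianMonoidalCategory MonObj GrpObj AlgebraicGeometry Limits

namespace Groth.Agent.Sga3.H816.HomTorOf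

open Groth.Agent.Sga3.H816.AffModel Groth.Agent.Sga3.H816.HomTorAsm

lemma isConnected_fibre {X S : Scheme.{u}} (f : X ⟶ S) [GeometricallyIrreducible f] (s : S) :
    _root_.IsConnected (f ⁻¹' {s}) := by
  have h1 : GeometricallyIrreducible (pullback.snd f (S.fromSpecResidueField s)) :=
    MorphismProperty.pullback_snd (P := @GeometricallyIrreducible) _ _ inferInstance
  have h2 : IrreducibleSpace ↥(pullback f (S.fromSpecResidueField s)) :=
    GeometricallyIrreducible.irreducibleSpace_of_subsingleton (pullback.snd f (S.fromSpecResidueField s))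
  have : IrreducibleSpace ↥(f.fiber s) := h2
  have h : ConnectedSpace ↥(f ⁻¹' {s}) := (f.fiberHomeo s).surjective.connectedSpace (f.fiberHomeo s).continuous
  exact isConnected_iff_connectedSpace.mpr h

theorem models : Models.{u} := by
  intro R _ G _ _ _ _ _
  obtain ⟨R₀, G₀, h1, h2, h3, h4, h5, h6, h7⟩ :=
    Groth.Agent.Sga3.H806.ApproxConn.exists_noetherian_conn G (isConnected_fibre G.hom)
  have hR₀ : Algebra.FiniteType ℤ R₀ := (Subalgebra.fg_iff_finiteType _).mp h2
  have : GrpObj (Over.mk G₀.hom) := h1
  refine ⟨R₀, inferInstance, hR₀, R₀.val.toRingHom, G₀, h1, h3, h4, ?_, h7⟩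
  exact Groth.Agent.Sga3C.GrpIrr.geometricallyIrreducible_of_connected_fibres G₀.hom h6

/-- **S4138** from the case of split tori over finitely generated rings. -/
theorem of_splitCase (hsplit : SplitCase.{u}) (S : Scheme.{u}) (G T : Over S) [GrpObj G] [GrpObj T]
    [Smooth G.hom] [QuasiCompact G.hom] [QuasiSeparated G.hom]
    (haff : ∀ s : S, IsAffine (pullback G.hom (S.fromSpecResidueField s))) (hT : Red.IsTorus T) :
    ∃ (A : Over S) (υ : T ⊗ A ⟶ G), AutFam.RepresentsHom T G A υ ∧ Smooth A.hom ∧ IsSeparated A.hom :=
  main hsplit models S G T haff hT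

end Groth.Agent.Sga3.H816.HomTorOf
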