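import Groth.Agent.Sga3.H816.RedFinite
import Groth.Agent.Sga3.H779.ExtMain

/-!
# Quasi-finite homomorphisms to affine groups: groups with reductive fibres are affine

`S` a locally noetherian scheme, `G` a smooth separated quasi-compact `S`-group with reductive geometric fibres, `H` an
affine `S`-group of finite type and `f : G ⟶ H` a locally quasi-finite homomorphism. Then `G` is affine over `S`, hence
reductive.
-/

set_option autoImplicit false
open CategoryTheory MonoidalCategory CartesianMonoidalCategory MonObj GrpObj AlgebraicGeometry CategoryTheory.Limits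
universe u

namespace Groth.Agent.Sga3.H816.RedFiniteAff

open Groth.Agent.Sga3.H816.RedFinite

variable {S : Scheme.{u}} {G H : Over S} [GrpObj G] [GrpObj H]

omit [GrpObj G] [GrpObj H] in
/-- Base change of a homomorphism: the cartesian square. -/
theorem isPullback_map {S' : Scheme.{u}} (t : S' ⟶ S) (f : G ⟶ H) :
    IsPullback (pullback.fst G.hom t) ((Over.pullback t).map f).left f.left (pullback.fst H.hom t) := by
  have h2 : IsPullback (pullback.fst G.hom t) (((Over.pullback t).map f).left ≫ (Red.bc t H).hom)
      (f.left ≫ H.hom) t := by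
    rw [Over.w, Over.w]
    exact IsPullback.of_hasPullback _ _
  exact IsPullback.of_bot h2 (pullback.lift_fst _ _ _).symm (IsPullback.of_hasPullback _ _)

/-- The lifting property over discrete valuation rings. -/
theorem liftProp (f : G ⟶ H) [IsMonHom f] [IsAffineHom H.hom] [LocallyOfFiniteType H.hom]
    [LocallyQuasiFinite f.left] : LiftProp f := by
  intro O _ _ _ x y hxy hred
  let K := FractionRing O
  let t : Spec (CommRingCat.of O) ⟶ S := y ≫ H.hom
  let j : Spec (CommRingCat.of K) ⟶ Spec (CommRingCat.of O) := Spec.map (CommRingCat.ofHom (algebraMap O K))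
  let F := (Over.pullback t).map f
  have h4 : IsAffineHom (Red.bc t H).hom := MorphismProperty.pullback_snd (P := @IsAffineHom) _ _ inferInstance
  have h4' : IsAffine (Red.bc t H).left := isAffine_of_isAffineHom (Red.bc t H).hom
  have h5 : LocallyOfFiniteType (Red.bc t H).hom :=
    MorphismProperty.pullback_snd (P := @LocallyOfFiniteType) _ _ inferInstance
  have h8 : LocallyQuasiFinite F.left := MorphismProperty.of_isPullback (isPullback_map t f) inferInstance
  have hx0 : x ≫ G.hom = j ≫ t := by
    rw [← Over.w f, ← Category.assoc, hxy, Category.assoc]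
  let x' : Over.mk j ⟶ Red.bc t G := Over.homMk (pullback.lift x j hx0) (pullback.lift_snd _ _ _)
  let h' : 𝟙_ (Over (Spec (CommRingCat.of O))) ⟶ Red.bc t H :=
    Over.homMk (pullback.lift y (𝟙 _) (Category.id_comp _).symm) (pullback.lift_snd _ _ _)
  have hx' : x' ≫ F = toUnit _ ≫ h' := by
    ext1
    apply pullback.hom_ext
    · change (pullback.lift x j hx0 ≫ F.left) ≫ pullback.fst H.hom t =
        ((toUnit (Over.mk j)).left ≫ pullback.lift y (𝟙 _) _) ≫ pullback.fst H.hom t
      rw [Category.assoc, ← (isPullback_map t f).w, pullback.lift_fst_assoc, Category.assoc, pullback.lift_fst, hxy]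
      rfl
    · change (pullback.lift x j hx0 ≫ F.left) ≫ (Red.bc t H).hom =
        ((toUnit (Over.mk j)).left ≫ pullback.lift y (𝟙 _) _) ≫ pullback.snd H.hom t
      rw [Category.assoc, Over.w F, Category.assoc, pullback.lift_snd]
      change pullback.lift x j hx0 ≫ pullback.snd G.hom t = _
      rw [pullback.lift_snd]
      exact (Category.comp_id _).symm
  obtain ⟨g, hg⟩ := Groth.Agent.Sga3.H779.ExtMain.exists_point O K hred F x' h' hx'
  refine ⟨g.left ≫ pullback.fst G.hom t, ?_⟩
  have h9 : j ≫ g.left = x'.left := congrArg (fun k => k.left) hg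
  rw [← Category.assoc, h9]
  exact pullback.lift_fst _ _ _

/-- **A smooth separated quasi-compact group with reductive geometric fibres and a quasi-finite homomorphism to an affine
group is reductive.** -/
theorem isReductive_of_qf [IsLocallyNoetherian S] [Smooth G.hom] [IsSeparated G.hom] [QuasiCompact G.hom]
    [IsAffineHom H.hom] [LocallyOfFiniteType H.hom]
    (hG : ∀ s : S, Red.IsReductiveOver (AlgebraicClosure (S.residueField s)) (Red.geomFibre s G))
    (f : G ⟶ H) [IsMonHom f] [LocallyQuasiFinite f.left] : Red.IsReductive G := by
  refine ⟨?_, inferInstance, hG⟩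
  refine IsZariskiLocalAtTarget.of_openCover (P := @IsAffineHom) S.affineCover fun i => ?_
  let q := S.affineCover.f i
  have hN : IsLocallyNoetherian (S.affineCover.X i) := isLocallyNoetherian_of_isOpenImmersion q
  have h1 : Smooth (Red.bc q G).hom := MorphismProperty.pullback_snd (P := @Smooth) _ _ inferInstance
  have h2 : QuasiCompact (Red.bc q G).hom := MorphismProperty.pullback_snd (P := @QuasiCompact) _ _ inferInstance
  have h3 : IsSeparated (Red.bc q G).hom := MorphismProperty.pullback_snd (P := @IsSeparated) _ _ inferInstance
  have h4 : IsAffineHom (Red.bc q H).hom := MorphismProperty.pullback_snd (P := @IsAffineHom) _ _ inferInstance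
  have h5 : LocallyOfFiniteType (Red.bc q H).hom :=
    MorphismProperty.pullback_snd (P := @LocallyOfFiniteType) _ _ inferInstance
  have h8 : LocallyQuasiFinite ((Over.pullback q).map f).left :=
    MorphismProperty.of_isPullback (isPullback_map q f) inferInstance
  exact (isReductive (Red.bc q G) (Red.bc q H)
    (fun s => (Groth.Agent.Sga3B.RedBc892U.isReductiveOver_geomFibre_bc_iff q s).2 (hG _))
    ((Over.pullback q).map f) (liftProp _)).1

end Groth.Agent.Sga3.H816.RedFiniteAff
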