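import Groth.Agent.Sga3.H778.NeutralOpen
import Groth.Agent.Sga3C.GrpIrr
import Groth.Prelude.Def_AutFam

/-!
# Reduction of `Hom_{S-gr}(H, G)` to the neutral component of `G`

* `isAffine_fibre`: if the fibres of `G` are affine, so are the fibres of `G⁰`;
* `exists_lift_neutral`: if the geometric fibres of `H` are connected, families of homomorphisms `H ⟶ G`
  factor through `G⁰`;
* `representsHom_of_factor`, `representsHom_neutral`.
-/

set_option autoImplicit false

universe u

open CategoryTheory MonoidalCategory CartesianMonoidalCategory MonObj GrpObj AlgebraicGeometry Limits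

namespace Groth.Agent.Sga3.H816.NeutralRed

open Groth.Agent.Sga3C Groth.Agent.Sga3C.HomogIrr Groth.Agent.Sga3.H778.NeutralPts Groth.Agent.Sga3.H778.NeutralOpen

variable {S : Scheme.{u}}

theorem range_fst {P X Y Z : Scheme.{u}} {a : P ⟶ X} {b : P ⟶ Y} {f : X ⟶ Z} {g : Y ⟶ Z} (h : IsPullback a b f g) :
    Set.range a = f ⁻¹' Set.range g := by
  rw [← Scheme.Pullback.range_fst f g, ← h.isoPullback_hom_fst, Scheme.Hom.comp_base, TopCat.coe_comp,
    Set.range_comp, Set.range_eq_univ.mpr h.isoPullback.hom.surjective, Set.image_univ]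

/-- Families of homomorphisms which factor through a subgroup. -/
theorem isHomFamily_of_comp {H G₀ G : Over S} [GrpObj H] [GrpObj G₀] [GrpObj G] (i : G₀ ⟶ G) [IsMonHom i] [Mono i]
    {X : Over S} (φ : H ⊗ X ⟶ G₀) (h : AutFam.IsHomFamily H G (φ ≫ i)) : AutFam.IsHomFamily H G₀ φ := by
  intro Y g₁ g₂ t
  rw [← cancel_mono i, Category.assoc, h Y g₁ g₂ t, MonObj.mul_comp, Category.assoc, Category.assoc]

theorem isHomFamily_comp {H G₀ G : Over S} [GrpObj H] [GrpObj G₀] [GrpObj G] (i : G₀ ⟶ G) [IsMonHom i]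
    {X : Over S} (φ : H ⊗ X ⟶ G₀) (h : AutFam.IsHomFamily H G₀ φ) : AutFam.IsHomFamily H G (φ ≫ i) := by
  intro Y g₁ g₂ t
  have := h Y g₁ g₂ t
  rw [← Category.assoc, this, MonObj.mul_comp, Category.assoc, Category.assoc]

/-- If all families of homomorphisms `H ⟶ G` factor through the subgroup `G₀` then
`Hom_{S-gr}(H, G₀) = Hom_{S-gr}(H, G)`. -/
theorem representsHom_of_factor {H G₀ G : Over S} [GrpObj H] [GrpObj G₀] [GrpObj G] (i : G₀ ⟶ G) [IsMonHom i] [Mono i]
    (hfac : ∀ (X : Over S) (φ : H ⊗ X ⟶ G), AutFam.IsHomFamily H G φ → ∃ φ' : H ⊗ X ⟶ G₀, φ' ≫ i = φ)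
    {A : Over S} {υ : H ⊗ A ⟶ G₀} (h : AutFam.RepresentsHom H G₀ A υ) : AutFam.RepresentsHom H G A (υ ≫ i) := by
  refine ⟨isHomFamily_comp i υ h.1, fun X φ hφ => ?_⟩
  obtain ⟨φ', rfl⟩ := hfac X φ hφ
  obtain ⟨a, ha, hau⟩ := h.2 X φ' (isHomFamily_of_comp i φ' hφ)
  refine ⟨a, ?_, fun b hb => ?_⟩
  · change (H ◁ a) ≫ υ ≫ i = φ' ≫ i
    rw [← Category.assoc]
    exact congrArg (· ≫ i) ha
  · refine hau b ?_
    have hb' : (H ◁ b) ≫ υ ≫ i = φ' ≫ i := hb
    rw [← Category.assoc, cancel_mono] at hb'
    exact hb'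

variable {G : Over S} [GrpObj G]

/-- The fibres of `G⁰` are closed in the fibres of `G`. -/
theorem isClosedImmersion_whiskerLeft (h : IsOpen (SGA3x.neutralSet G)) (T : Over S) [Subsingleton T.left]
    [Nonempty T.left] : IsClosedImmersion (T ◁ opnι G (neutral G h)).left := by
  obtain ⟨t⟩ := ‹Nonempty T.left›
  have hpb := SchemImage.isPullback_whiskerLeft_left (opnι G (neutral G h)) T
  have h1 : IsOpenImmersion (T ◁ opnι G (neutral G h)).left :=
    MorphismProperty.of_isPullback hpb.flip (inferInstanceAs (IsOpenImmersion (opnι G (neutral G h)).left))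
  have h2 : Set.range (T ◁ opnι G (neutral G h)).left = (snd T G).left ⁻¹' SGA3x.neutralSet G := by
    rw [range_fst hpb]
    congr 1
    change Set.range (neutral G h).ι = _
    rw [Scheme.Opens.range_ι]
    rfl
  have h3 : IsClosed (Set.range (T ◁ opnι G (neutral G h)).left) := by
    rw [h2, preimage_neutralSet_of_subsingleton T t]
    exact isClosed_connectedComponent
  exact IsClosedImmersion.of_isPreimmersion _ h3

/-- The fibres of `G⁰` are affine if the fibres of `G` are. -/
theorem isAffine_fibre (h : IsOpen (SGA3x.neutralSet G))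
    (haff : ∀ s : S, IsAffine (pullback G.hom (S.fromSpecResidueField s))) (s : S) :
    IsAffine (pullback (opn G (neutral G h)).hom (S.fromSpecResidueField s)) := by
  let T : Over S := Over.mk (S.fromSpecResidueField s)
  have : Subsingleton T.left := inferInstanceAs (Subsingleton (Spec (S.residueField s)))
  have : Nonempty T.left := inferInstanceAs (Nonempty (Spec (S.residueField s)))
  have h1 := isClosedImmersion_whiskerLeft h T
  have h2 : IsAffine (T ⊗ G : Over S).left := by
    have : IsAffine (pullback G.hom T.hom) := haff s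
    exact .of_isIso (pullbackSymmetry T.hom G.hom).hom
  have h3 : IsAffine (T ⊗ opn G (neutral G h) : Over S).left := isAffine_of_isAffineHom (T ◁ opnι G (neutral G h)).left
  have h4 : IsAffine (pullback T.hom (opn G (neutral G h)).hom) := h3
  exact .of_isIso (pullbackSymmetry (opn G (neutral G h)).hom T.hom).hom

/-- Families of homomorphisms from a group with connected geometric fibres factor through `G⁰`. -/
theorem exists_lift_neutral (h : IsOpen (SGA3x.neutralSet G)) (H : Over S) [GrpObj H] [GeometricallyIrreducible H.hom]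
    (X : Over S) (φ : H ⊗ X ⟶ G) (hφ : AutFam.IsHomFamily H G φ) :
    ∃ φ' : H ⊗ X ⟶ opn G (neutral G h), φ' ≫ opnι G (neutral G h) = φ := by
  refine exists_lift _ _ fun w => ?_
  change φ.left w ∈ SGA3x.neutralSet G
  let x := (snd H X).left w
  let T := ptObj X x
  let p : T ⟶ X := ptHom X x
  obtain ⟨t⟩ : Nonempty T.left := inferInstance
  -- the fibre is connected
  have hirr : IrreducibleSpace (H ⊗ T : Over S).left := by
    change IrreducibleSpace (pullback H.hom T.hom :)
    exact GeometricallyIrreducible.irreducibleSpace_of_subsingleton (pullback.snd H.hom T.hom)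
  -- `w` comes from the fibre
  obtain ⟨v, hv⟩ : w ∈ Set.range (H ◁ p).left := by
    rw [range_fst (SchemImage.isPullback_whiskerLeft_left p H)]
    exact ⟨t, ptHom_apply X x t⟩
  let ψ : H ⊗ T ⟶ T ⊗ G := lift (snd H T) ((H ◁ p) ≫ φ)
  have h1 : lift 1 (𝟙 T) ≫ ψ = oneSec T G := by
    have h2 := hφ T 1 1 p
    rw [_root_.mul_one] at h2
    have h3 : lift (1 : T ⟶ H) p ≫ φ = 1 := mul_eq_left.mp h2.symm
    ext1
    · simp [ψ, oneSec]
    · simp only [ψ, oneSec, Category.assoc, lift_snd]
      rw [← Category.assoc, lift_whiskerLeft, Category.id_comp]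
      exact h3
  have h4 : _root_.IsPreconnected (Set.range ψ.left) :=
    isPreconnected_range ψ.left.continuous
  have h5 : ψ.left ((lift 1 (𝟙 T) : T ⟶ H ⊗ T).left t) = (oneSec T G).left t := by
    rw [← comp_left_apply, h1]
  have h6 : ψ.left v ∈ connectedComponent ((oneSec T G).left t) :=
    h4.subset_connectedComponent ⟨_, h5⟩ ⟨v, rfl⟩
  rw [← preimage_neutralSet_of_subsingleton T t] at h6
  have h7 : (snd T G).left (ψ.left v) = φ.left w := by
    rw [← comp_left_apply, lift_snd, comp_left_apply, hv]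
  rw [← h7]
  exact h6

theorem representsHom_neutral (h : IsOpen (SGA3x.neutralSet G)) [GrpObj (opn G (neutral G h))]
    [IsMonHom (opnι G (neutral G h))] (H : Over S) [GrpObj H] [GeometricallyIrreducible H.hom]
    {A : Over S} {υ : H ⊗ A ⟶ opn G (neutral G h)} (hA : AutFam.RepresentsHom H (opn G (neutral G h)) A υ) :
    AutFam.RepresentsHom H G A (υ ≫ opnι G (neutral G h)) :=
  representsHom_of_factor _ (fun X φ hφ => exists_lift_neutral h H X φ hφ) hA

end Groth.Agent.Sga3.H816.NeutralRed
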