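import Groth.Agent.Sga3B.RepDescent9
import Mathlib.AlgebraicGeometry.QuasiAffine

/-!
# Representability of `Hom_{S-gr}(T, G)` by good schemes

`Rep T G`: `Hom_{S-gr}(T, G)` is representable by a smooth separated `S`-scheme all of whose quasi-compact opens are
quasi-affine. This is stable under affine base change, and it yields étale descent of representability.
-/

set_option autoImplicit false

universe u

open CategoryTheory MonoidalCategory CartesianMonoidalCategory MonObj GrpObj AlgebraicGeometry Limits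

namespace Groth.Agent.Sga3.H816.RepDef

open Groth.Agent.Sga3B

variable {S : Scheme.{u}}

/-- `Hom_{S-gr}(T, G)` is representable by a smooth separated `S`-scheme whose quasi-compact opens are
quasi-affine. -/
def Rep (T G : Over S) [GrpObj T] [GrpObj G] : Prop :=
  ∃ (A : Over S) (υ : T ⊗ A ⟶ G), AutFam.RepresentsHom T G A υ ∧ Smooth A.hom ∧ IsSeparated A.hom ∧
    ∀ U : A.left.Opens, IsCompact (U : Set A.left) → (U : Scheme.{u}).IsQuasiAffine

/-- The last clause of `Rep` in the form of `RepDescent9`. -/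
theorem Rep.of_exists {T G : Over S} [GrpObj T] [GrpObj G]
    (h : ∃ (A : Over S) (υ : T ⊗ A ⟶ G), AutFam.RepresentsHom T G A υ ∧ Smooth A.hom ∧ IsSeparated A.hom ∧
      ∀ U : A.left.Opens, IsCompact (U : Set A.left) →
        ∃ (P : Scheme.{u}) (k : (U : Scheme.{u}) ⟶ P), IsAffine P ∧ IsOpenImmersion k) : Rep T G := by
  obtain ⟨A, υ, h1, h2, h3, h4⟩ := h
  exact ⟨A, υ, h1, h2, h3, fun U hU => RepDescent.isQuasiAffine_of_exists hU (h4 U hU)⟩

theorem Rep.exists {T G : Over S} [GrpObj T] [GrpObj G] (h : Rep T G) :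
    ∃ (A : Over S) (υ : T ⊗ A ⟶ G), AutFam.RepresentsHom T G A υ ∧ Smooth A.hom ∧ IsSeparated A.hom ∧
      ∀ U : A.left.Opens, IsCompact (U : Set A.left) →
        ∃ (P : Scheme.{u}) (k : (U : Scheme.{u}) ⟶ P), IsAffine P ∧ IsOpenImmersion k := by
  obtain ⟨A, υ, h1, h2, h3, h4⟩ := h
  refine ⟨A, υ, h1, h2, h3, fun U hU => ?_⟩
  have := h4 U hU
  exact ⟨_, (U : Scheme.{u}).toSpecΓ, inferInstance, inferInstance⟩

/-- Étale descent. -/
theorem exists_of_etale (T G : Over S) [GrpObj T] [GrpObj G]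
    (h : ∀ s : S, ∃ (V : Scheme.{u}) (v : V ⟶ S), Etale v ∧ s ∈ Set.range v ∧ Rep (Red.bc v T) (Red.bc v G)) :
    ∃ (A : Over S) (υ : T ⊗ A ⟶ G), AutFam.RepresentsHom T G A υ ∧ Smooth A.hom ∧ IsSeparated A.hom := by
  refine RepDescent.exists_representsHom_smooth_of_etale T G fun s => ?_
  obtain ⟨V, v, hv, hs, h⟩ := h s
  exact ⟨V, v, hv, hs, h.exists⟩

/-- Transport along an isomorphism of the source. -/
theorem Rep.of_iso_left {T T' G : Over S} [GrpObj T] [GrpObj T'] [GrpObj G] (e : T' ≅ T) [IsMonHom e.hom]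
    (h : Rep T G) : Rep T' G := by
  obtain ⟨A, υ, h1, h2, h3, h4⟩ := h
  have key (X : Over S) (φ : T' ⊗ X ⟶ G) (hφ : AutFam.IsHomFamily T' G φ) :
      AutFam.IsHomFamily T G ((e.inv ▷ X) ≫ φ) := by
    intro Y g₁ g₂ t
    have h5 := hφ Y (g₁ ≫ e.inv) (g₂ ≫ e.inv) t
    rw [← MonObj.mul_comp] at h5
    simpa only [← Category.assoc, lift_whiskerRight] using h5
  refine ⟨A, (e.hom ▷ A) ≫ υ, ⟨?_, ?_⟩, h2, h3, h4⟩
  · intro Y g₁ g₂ t
    have h5 := h1.1 Y (g₁ ≫ e.hom) (g₂ ≫ e.hom) t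
    rw [← MonObj.mul_comp] at h5
    simpa only [← Category.assoc, lift_whiskerRight] using h5
  · intro X φ hφ
    obtain ⟨a, ha, hau⟩ := h1.2 X _ (key X φ hφ)
    refine ⟨a, ?_, fun b hb => hau b ?_⟩
    · change (T' ◁ a) ≫ (e.hom ▷ A) ≫ υ = φ
      have ha' : (T ◁ a) ≫ υ = (e.inv ▷ X) ≫ φ := ha
      rw [whisker_exchange_assoc, ha', ← comp_whiskerRight_assoc, e.hom_inv_id, id_whiskerRight, Category.id_comp]
    · change (T ◁ b) ≫ υ = (e.inv ▷ X) ≫ φ
      have hb' : (T' ◁ b) ≫ (e.hom ▷ A) ≫ υ = φ := hb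
      rw [← hb', whisker_exchange_assoc, ← comp_whiskerRight_assoc, e.inv_hom_id, id_whiskerRight,
        Category.id_comp]

/-- Transport along an isomorphism of the target. -/
theorem Rep.of_iso_right {T G G' : Over S} [GrpObj T] [GrpObj G] [GrpObj G'] (e : G ≅ G') [IsMonHom e.hom]
    (h : Rep T G) : Rep T G' := by
  obtain ⟨A, υ, h1, h2, h3, h4⟩ := h
  refine ⟨A, υ ≫ e.hom, ⟨?_, ?_⟩, h2, h3, h4⟩
  · intro Y g₁ g₂ t
    have := h1.1 Y g₁ g₂ t
    rw [← Category.assoc, this, MonObj.mul_comp, Category.assoc, Category.assoc]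
  · intro X φ hφ
    have hφ' : AutFam.IsHomFamily T G (φ ≫ e.inv) := by
      intro Y g₁ g₂ t
      rw [← cancel_mono e.hom, MonObj.mul_comp]
      simpa using hφ Y g₁ g₂ t
    obtain ⟨a, ha, hau⟩ := h1.2 X _ hφ'
    refine ⟨a, ?_, fun b hb => hau b ?_⟩
    · change (T ◁ a) ≫ υ ≫ e.hom = φ
      have ha' : (T ◁ a) ≫ υ = φ ≫ e.inv := ha
      rw [← Category.assoc, ha']
      simp
    · change (T ◁ b) ≫ υ = φ ≫ e.inv
      have hb' : (T ◁ b) ≫ υ ≫ e.hom = φ := hb
      rw [← hb']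
      simp

/-- A compact subset of a scheme is contained in a quasi-compact open subset. -/
theorem exists_isCompact_opens (X : Scheme.{u}) (K : Set X) (hK : IsCompact K) :
    ∃ U : X.Opens, IsCompact (U : Set X) ∧ K ⊆ U := by
  choose V hV hxV using fun x : X => show ∃ V : X.Opens, IsAffineOpen V ∧ x ∈ V from by
    obtain ⟨V, hV, hx, -⟩ := exists_isAffineOpen_mem_and_subset (show x ∈ (⊤ : X.Opens) from trivial)
    exact ⟨V, hV, hx⟩
  obtain ⟨t, ht⟩ := hK.elim_finite_subcover (fun x : X => (V x : Set X)) (fun x => (V x).isOpen)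
    (fun x _ => Set.mem_iUnion.mpr ⟨x, hxV x⟩)
  refine ⟨⨆ x ∈ t, V x, ?_, ?_⟩
  · have : ((⨆ x ∈ t, V x : X.Opens) : Set X) = ⋃ x ∈ t, (V x : Set X) := by simp
    rw [this]
    exact t.isCompact_biUnion fun x _ => (hV x).isCompact
  · intro x hx
    have := ht hx
    simpa using this

/-- Quasi-compact opens stay quasi-affine under affine base change. -/
theorem isQuasiAffine_of_isAffineHom {X Y : Scheme.{u}} (f : X ⟶ Y) [IsAffineHom f]
    (h : ∀ U : Y.Opens, IsCompact (U : Set Y) → (U : Scheme.{u}).IsQuasiAffine) (U : X.Opens)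
    (hU : IsCompact (U : Set X)) : (U : Scheme.{u}).IsQuasiAffine := by
  obtain ⟨W, hW, hUW⟩ := exists_isCompact_opens Y (f '' (U : Set X)) (hU.image f.continuous)
  have h1 := h W hW
  have : IsAffineHom (f ∣_ W) := IsZariskiLocalAtTarget.restrict (P := @IsAffineHom) inferInstance _
  have h2 : (f ⁻¹ᵁ W : Scheme.{u}).IsQuasiAffine := Scheme.IsQuasiAffine.of_isAffineHom (f ∣_ W)
  have h3 : U ≤ f ⁻¹ᵁ W := fun x hx => hUW ⟨x, hx, rfl⟩
  have : CompactSpace U := isCompact_iff_compactSpace.1 hU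
  exact Scheme.IsQuasiAffine.of_isImmersion (X.homOfLE h3)

/-- Base change along an affine morphism. -/
theorem Rep.bc {T G : Over S} [GrpObj T] [GrpObj G] (h : Rep T G) {V : Scheme.{u}} (v : V ⟶ S) [IsAffineHom v] :
    Rep (Red.bc v T) (Red.bc v G) := by
  obtain ⟨A, υ, h1, h2, h3, h4⟩ := h
  obtain ⟨υ', h1'⟩ := RepDescent.representsHom_bc h1 v
  refine ⟨Red.bc v A, υ', h1', ?_, ?_, ?_⟩
  · change Smooth (pullback.snd A.hom v)
    infer_instance
  · change IsSeparated (pullback.snd A.hom v)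
    infer_instance
  · have : IsAffineHom (pullback.fst A.hom v) := MorphismProperty.pullback_fst _ _ inferInstance
    exact isQuasiAffine_of_isAffineHom (pullback.fst A.hom v) h4

end Groth.Agent.Sga3.H816.RepDef
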