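import Groth.Agent.Sga3.H816.AffModel
import Groth.Agent.Sga3.H816.UnitLoc
import Groth.Agent.Sga3.H816.RepDef
import Groth.Agent.Sga3.H816.NeutralRed
import Groth.Agent.Sga3B.TorusEtSplit
import Groth.Agent.Sga3B.TorusIrr

/-!
# Assembly of S4138

`Hom_{S-gr}(T, G)` is representable for `G` smooth, quasi-compact, quasi-separated with affine fibres and `T` a torus,
if the case of split tori, finitely generated base rings and groups `G` with connected fibres and an affine
neighbourhood of the unit section is known, and if noetherian models exist.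
-/

set_option autoImplicit false

universe u

open CategoryTheory MonoidalCategory CartesianMonoidalCategory MonObj GrpObj AlgebraicGeometry Limits

namespace Groth.Agent.Sga3.H816.HomTorAsm

open Groth.Agent.Sga3B Groth.Agent.Sga3.H816.AffFibStage Groth.Agent.Sga3.H816.AffModel
  Groth.Agent.Sga3.H816.UnitLoc Groth.Agent.Sga3.H816.RepDef Groth.Agent.Sga3.H816.NeutralRed
  Groth.Agent.Sga3.H778.NeutralOpen

/-- Transport of `Rep` along isomorphisms of group schemes. -/
theorem rep_of_grpIso {S : Scheme.{u}} {T T' G G' : Over S} [GrpObj T] [GrpObj T'] [GrpObj G] [GrpObj G']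
    (e : Grp.mk T' ≅ Grp.mk T) (f : Grp.mk G ≅ Grp.mk G') (h : Rep T G) : Rep T' G' := by
  let e' : T' ≅ T := (Grp.forget _).mapIso e
  let f' : G ≅ G' := (Grp.forget _).mapIso f
  have h1 : IsMonHom e'.hom := inferInstanceAs (IsMonHom e.hom.hom.hom)
  have h2 : IsMonHom f'.hom := inferInstanceAs (IsMonHom f.hom.hom.hom)
  exact (h.of_iso_left e').of_iso_right f'

/-- The interface: the case of a split torus over a finitely generated ring and of a group scheme with connected
affine fibres such that the unit section has an affine neighbourhood. -/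
def SplitCase : Prop :=
  ∀ (B : Type u) [CommRing B] [Algebra.FiniteType ℤ B] (G : Over (Spec (CommRingCat.of B))) [GrpObj G]
    [Smooth G.hom] [IsSeparated G.hom] [QuasiCompact G.hom] [GeometricallyIrreducible G.hom],
    (∀ s : Spec (CommRingCat.of B), IsAffine (pullback G.hom ((Spec (CommRingCat.of B)).fromSpecResidueField s))) →
    InfConjFam.HasAffineUnitNhd G → ∀ r : ℕ, Rep (Red.DS _ (Fin r → ℤ)) G

/-- Existence of noetherian models. -/
def Models : Prop :=
  ∀ (R : Type u) [CommRing R] (G : Over (Spec (CommRingCat.of R))) [GrpObj G]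
    [Smooth G.hom] [IsSeparated G.hom] [QuasiCompact G.hom] [GeometricallyIrreducible G.hom], Model G

lemma finiteType_int (B C : Type u) [CommRing B] [CommRing C] [Algebra.FiniteType ℤ B] [Algebra B C]
    [Algebra.FiniteType B C] : Algebra.FiniteType ℤ C :=
  Algebra.FiniteType.trans (S := B) inferInstance inferInstance

/-- Zariski-local representability over an affine base, for a split torus. -/
theorem exists_rep_spec (hsplit : SplitCase.{u}) (hmod : Models.{u}) {B : Type u} [CommRing B]
    (G : Over (Spec (CommRingCat.of B))) [GrpObj G] [Smooth G.hom] [IsSeparated G.hom] [QuasiCompact G.hom]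
    [GeometricallyIrreducible G.hom] (haff : Fib G.hom) (r : ℕ) (s : Spec (CommRingCat.of B)) :
    ∃ (C : Type u) (_ : CommRing C) (w : Spec (CommRingCat.of C) ⟶ Spec (CommRingCat.of B)),
      IsOpenImmersion w ∧ s ∈ Set.range w ∧ Rep (Red.DS _ (Fin r → ℤ)) (Red.bc w G) := by
  obtain ⟨B₁, _, _, φ, G₁, _, h1, h2, h3, h4, h5, ⟨e⟩⟩ := exists_model G (hmod B G) haff
  obtain ⟨f, hf, hU⟩ := exists_away G₁ (Spec.map (CommRingCat.ofHom φ) s)
  let B₂ := Localization.Away f
  let j : Spec (CommRingCat.of B₂) ⟶ Spec (CommRingCat.of B₁) := Spec.map (CommRingCat.ofHom (algebraMap B₁ B₂))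
  have : Algebra.FiniteType B₁ B₂ := IsLocalization.finiteType_of_monoid_fg (Submonoid.powers f) B₂
  have hB₂ := finiteType_int B₁ B₂
  have i1 : Smooth (Red.bc j G₁).hom := inferInstanceAs (Smooth (pullback.snd G₁.hom j))
  have i2 : IsSeparated (Red.bc j G₁).hom := inferInstanceAs (IsSeparated (pullback.snd G₁.hom j))
  have i3 : QuasiCompact (Red.bc j G₁).hom := inferInstanceAs (QuasiCompact (pullback.snd G₁.hom j))
  have i4 : GeometricallyIrreducible (Red.bc j G₁).hom :=
    inferInstanceAs (GeometricallyIrreducible (pullback.snd G₁.hom j))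
  have h6 : Rep (Red.DS _ (Fin r → ℤ)) (Red.bc j G₁) := @hsplit B₂ _ hB₂ (Red.bc j G₁) _ _ _ _ _ (h5.snd j) hU r
  let C := Localization.Away (φ f)
  let w : Spec (CommRingCat.of C) ⟶ Spec (CommRingCat.of B) := Spec.map (CommRingCat.ofHom (algebraMap B C))
  have hu : IsUnit (((algebraMap B C).comp φ) f) := IsLocalization.Away.algebraMap_isUnit (φ f)
  let ψ : B₂ →+* C := IsLocalization.Away.lift f hu
  let q : Spec (CommRingCat.of C) ⟶ Spec (CommRingCat.of B₂) := Spec.map (CommRingCat.ofHom ψ)
  have hq : q ≫ j = w ≫ Spec.map (CommRingCat.ofHom φ) := by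
    simp only [q, j, w, ← Spec.map_comp, ← CommRingCat.ofHom_comp]
    congr 2
    exact IsLocalization.lift_comp _
  refine ⟨C, inferInstance, w, IsOpenImmersion.of_isLocalization (φ f), ?_, ?_⟩
  · change s ∈ Set.range (PrimeSpectrum.comap (algebraMap B C))
    rw [PrimeSpectrum.localization_away_comap_range C (φ f)]
    exact hf
  · refine rep_of_grpIso (TorusAlgClosed.dsBcIso q (Fin r → ℤ)).symm ?_ (h6.bc q)
    exact (BcIso.bcCompIso q j G₁).symm ≪≫ BcIso.bcCongrIso hq G₁ ≪≫
      BcIso.bcCompIso w (Spec.map (CommRingCat.ofHom φ)) G₁ ≪≫ BcIso.bcMapIso w e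

/-- The case of connected fibres. -/
theorem exists_rep_connected (hsplit : SplitCase.{u}) (hmod : Models.{u}) {S : Scheme.{u}} (G T : Over S) [GrpObj G]
    [GrpObj T] [Smooth G.hom] [IsSeparated G.hom] [QuasiCompact G.hom] [GeometricallyIrreducible G.hom]
    (haff : Fib G.hom) (hT : Red.IsTorus T) :
    ∃ (A : Over S) (υ : T ⊗ A ⟶ G), AutFam.RepresentsHom T G A υ ∧ Smooth A.hom ∧ IsSeparated A.hom := by
  refine exists_of_etale T G fun s => ?_
  obtain ⟨B, _, v, r, hv, ⟨t, ht⟩, ⟨e⟩⟩ := TorusEtSplit.exists_etale_split T hT s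
  have i1 : Smooth (Red.bc v G).hom := inferInstanceAs (Smooth (pullback.snd G.hom v))
  have i2 : IsSeparated (Red.bc v G).hom := inferInstanceAs (IsSeparated (pullback.snd G.hom v))
  have i3 : QuasiCompact (Red.bc v G).hom := inferInstanceAs (QuasiCompact (pullback.snd G.hom v))
  have i4 : GeometricallyIrreducible (Red.bc v G).hom :=
    inferInstanceAs (GeometricallyIrreducible (pullback.snd G.hom v))
  obtain ⟨C, _, w, hw, ⟨z, hz⟩, h1⟩ := exists_rep_spec hsplit hmod (Red.bc v G) (haff.snd v) r t
  refine ⟨_, w ≫ v, inferInstance, ⟨z, ?_⟩, ?_⟩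
  · rw [Scheme.Hom.comp_apply, hz]
    exact ht
  · exact rep_of_grpIso (BcIso.bcCompIso w v T ≪≫ BcIso.bcMapIso w e ≪≫ TorusAlgClosed.dsBcIso w (Fin r → ℤ))
      (BcIso.bcCompIso w v G).symm h1

/-- **S4138** from the split case and the existence of noetherian models. -/
theorem main (hsplit : SplitCase.{u}) (hmod : Models.{u}) (S : Scheme.{u}) (G T : Over S) [GrpObj G] [GrpObj T]
    [Smooth G.hom] [QuasiCompact G.hom] [QuasiSeparated G.hom]
    (haff : ∀ s : S, IsAffine (pullback G.hom (S.fromSpecResidueField s))) (hT : Red.IsTorus T) :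
    ∃ (A : Over S) (υ : T ⊗ A ⟶ G), AutFam.RepresentsHom T G A υ ∧ Smooth A.hom ∧ IsSeparated A.hom := by
  have hsm : Smooth ((⊤ : G.left.Opens).ι ≫ G.hom) := inferInstance
  have h := isOpen_neutralSet G ⊤ (fun s => trivial)
  obtain ⟨hgrp, hmon⟩ := exists_grpObj G h
  have i1 : Smooth (opn G (neutral G h)).hom := smooth_neutral G ⊤ (fun s => trivial) h
  have hconn := isConnected_fibre G h
  obtain ⟨i2, i3⟩ := Groth.Agent.S3025.result S (opn G (neutral G h)) hconn
  have : GrpObj (Over.mk (opn G (neutral G h)).hom) := hgrp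
  have i4 : GeometricallyIrreducible (opn G (neutral G h)).hom :=
    Sga3C.GrpIrr.geometricallyIrreducible_of_connected_fibres (opn G (neutral G h)).hom hconn
  have := TorusIrr.geometricallyIrreducible_of_isTorus hT
  obtain ⟨A, υ, h1, h2, h3⟩ := exists_rep_connected hsplit hmod (opn G (neutral G h)) T (isAffine_fibre h haff) hT
  exact ⟨A, υ ≫ opnι G (neutral G h), representsHom_neutral h T h1, h2, h3⟩

end Groth.Agent.Sga3.H816.HomTorAsm
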