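import Groth.Agent.Sga3.H816.RedFinite
import Groth.Agent.Sga3B.RadOpen.Main
import Groth.Agent.Sga3B.LocLim789
import Groth.Agent.Sga3B.AffDvrBase789
import Groth.Agent.FlatA.NagataOpen
import Groth.Agent.Ega43.DvrScheme

/-!
# Openness of the reductive and of the semisimple locus without affineness

`G` a smooth separated quasi-compact group scheme with connected fibres over a locally noetherian scheme `S`.  Assume
that `G` is affine over every discrete valuation ring over `S` whose closed point lies in the reductive (semisimple) locus.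
Then the reductive (semisimple) locus is open in `S`.
-/

set_option autoImplicit false
open CategoryTheory MonoidalCategory CartesianMonoidalCategory MonObj GrpObj AlgebraicGeometry CategoryTheory.Limits
universe u

namespace Groth.Agent.Sga3.H816.LocusOpen

open Groth.Agent.Sga3.H816.RedFinite

/-- A condition on geometric fibres of group schemes with the formal properties of "reductive" and "semisimple". -/
structure Cond (Q : ∀ {S : Scheme.{u}} (G : Over S) [GrpObj G], S → Prop) : Prop where
  bc : ∀ {S S' : Scheme.{u}} (f : S' ⟶ S) (G : Over S) [GrpObj G] (s' : S'), Q (Red.bc f G) s' ↔ Q G (f s')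
  opn : ∀ {S : Scheme.{u}} (G : Over S) [GrpObj G] [IsAffineHom G.hom] [Smooth G.hom],
    (∀ s : S, _root_.IsConnected (G.hom.base ⁻¹' {s})) → IsOpen {s : S | Q G s}
  aff : ∀ {S : Scheme.{u}} (G : Over S) [GrpObj G] (s : S), Q G s → IsAffine (pullback G.hom (S.fromSpecResidueField s))

theorem cond_reductive : Cond.{u} fun {S} G _ s =>
    Red.IsReductiveOver (AlgebraicClosure (S.residueField s)) (Red.geomFibre s G) where
  bc f _ _ s' := Groth.Agent.Sga3B.RedBc892U.isReductiveOver_geomFibre_bc_iff f s'
  opn G _ _ _ hc := Groth.Agent.Sga3B.RadOpen.isOpen_redLocus G hc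
  aff G _ s h := isAffine_fibre G s h.1

theorem cond_semisimple : Cond.{u} fun {S} G _ s =>
    Red.IsSemisimpleOver (AlgebraicClosure (S.residueField s)) (Red.geomFibre s G) where
  bc f _ _ s' := Groth.Agent.Sga3B.RedBc892U.isSemisimpleOver_geomFibre_bc_iff f s'
  opn G _ _ _ hc := Groth.Agent.Sga3B.RadOpen.isOpen_ssLocus G hc
  aff G _ s h := isAffine_fibre G s h.1.1

variable {S : Scheme.{u}}

/-- Base changes of groups with connected fibres have connected fibres. -/
theorem isConnected_fibre_bc {S' : Scheme.{u}} (f : S' ⟶ S) (G : Over S) [GrpObj G] [LocallyOfFiniteType G.hom]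
    (hconn : ∀ s : S, _root_.IsConnected (G.hom.base ⁻¹' {s})) (s' : S') :
    _root_.IsConnected ((Red.bc f G).hom.base ⁻¹' {s'}) := by
  have h0 : GeometricallyIrreducible G.hom :=
    @Groth.Agent.Sga3C.GrpIrr.geometricallyIrreducible_of_connected_fibres _ _ G.hom _
      (inferInstanceAs (GrpObj G)) hconn
  have h1 : GeometricallyIrreducible (Red.bc f G).hom :=
    MorphismProperty.pullback_snd (P := @GeometricallyIrreducible) _ _ inferInstance
  have h2 : IrreducibleSpace ((Red.bc f G).hom.fiber s') := inferInstance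
  have h3 : Set.range ((Red.bc f G).hom.fiberι s') = (Red.bc f G).hom.base ⁻¹' {s'} :=
    (Red.bc f G).hom.range_fiberι s'
  rw [← h3]
  exact isConnected_range ((Red.bc f G).hom.fiberι s').continuous

variable {Q : ∀ {S : Scheme.{u}} (G : Over S) [GrpObj G], S → Prop} (hQ : Cond @Q)

include hQ in
/-- Stability under generization. -/
theorem of_specializes [IsLocallyNoetherian S] (G : Over S) [GrpObj G] [Smooth G.hom] [QuasiCompact G.hom]
    (hconn : ∀ s : S, _root_.IsConnected (G.hom.base ⁻¹' {s}))
    (hdvr : ∀ (O : Type u) [CommRing O] [IsDomain O] [IsDiscreteValuationRing O] (t : Spec (CommRingCat.of O) ⟶ S),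
      Q G (t (IsLocalRing.closedPoint O)) → IsAffine (Red.bc t G).left)
    (x y : S) (h : x ⤳ y) (hy : Q G y) : Q G x := by
  by_cases hxy : x = y
  · rwa [hxy]
  have hN : IsNoetherianRing (S.presheaf.stalk y) := inferInstance
  obtain ⟨O, _, _, _, _, _, g, hg1, hg2⟩ := Groth.Agent.Ega43.DvrScheme.exists_dvr_of_specializes h hxy
    (S.residueField x) (𝟙 _) (by
      change (RingHom.id _).EssFiniteType
      exact RingHom.FiniteType.essFiniteType (RingHom.FiniteType.id _))
  have haff : IsAffine (Red.bc g G).left := hdvr O g (by rwa [hg1])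
  have hs : Smooth (Red.bc g G).hom := MorphismProperty.pullback_snd (P := @Smooth) _ _ inferInstance
  have h1 := hQ.opn (Red.bc g G) (isConnected_fibre_bc g G hconn)
  have h2 : IsLocalRing.closedPoint O ∈ {s | Q (Red.bc g G) s} := by
    change Q (Red.bc g G) _
    rw [hQ.bc, hg1]
    exact hy
  have h3 : {s | Q (Red.bc g G) s} = Set.univ := by
    have := (IsLocalRing.closedPoint_mem_iff (U := ⟨_, h1⟩)).mp h2
    exact congrArg (fun U : TopologicalSpace.Opens (PrimeSpectrum O) => (U : Set (PrimeSpectrum O))) this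
  let e : Spec (CommRingCat.of (S.residueField x)) ⟶ Spec (CommRingCat.of O) :=
    Spec.map (CommRingCat.ofHom (algebraMap O (S.residueField x)))
  have h4 : (e ≫ g) (IsLocalRing.closedPoint _) = x := by
    rw [hg2, Scheme.Hom.comp_apply]
    exact Scheme.fromSpecResidueField_apply _ _
  have h5 : e (IsLocalRing.closedPoint _) ∈ {s | Q (Red.bc g G) s} := by rw [h3]; trivial
  have h6 : Q G (g (e (IsLocalRing.closedPoint _))) := (hQ.bc g G _).1 h5
  rwa [← Scheme.Hom.comp_apply, h4] at h6

/-- Base changes to fields are affine if the corresponding fibre is. -/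
theorem isAffine_pullback_of_fibre {X S : Scheme.{u}} (f : X ⟶ S) {F : Type u} [Field F]
    (t : Spec (CommRingCat.of F) ⟶ S)
    (h : IsAffine (pullback f (S.fromSpecResidueField (t (IsLocalRing.closedPoint F))))) :
    IsAffine (pullback f t) := by
  obtain ⟨s, hs, q, hq⟩ : ∃ (s : S) (_ : s = t (IsLocalRing.closedPoint F))
      (q : Spec (CommRingCat.of F) ⟶ Spec (S.residueField s)), q ≫ S.fromSpecResidueField s = t := by
    refine ⟨t (IsLocalRing.closedPoint F), rfl, Spec.map (Scheme.descResidueField
      (Scheme.stalkClosedPointTo t)), ?_⟩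
    exact Scheme.descResidueField_stalkClosedPointTo_fromSpecResidueField F S t
  rw [← hs] at h
  have h1 : IsPullback (pullback.fst (pullback.snd f (S.fromSpecResidueField s)) q ≫
      pullback.fst f (S.fromSpecResidueField s)) (pullback.snd (pullback.snd f _) q) f
      (q ≫ S.fromSpecResidueField s) :=
    (IsPullback.of_hasPullback _ q).paste_horiz (IsPullback.of_hasPullback f _)
  rw [hq] at h1
  have h2 : IsAffineHom (pullback.snd f (S.fromSpecResidueField s)) := inferInstance
  have h3 : IsAffine (pullback (pullback.snd f (S.fromSpecResidueField s)) q) :=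
    isAffine_of_isAffineHom (pullback.snd (pullback.snd f (S.fromSpecResidueField s)) q)
  exact .of_isIso h1.isoPullback.inv

include hQ in
/-- Generic openness on the closure of a point. -/
theorem exists_open {R : Type u} [CommRing R] (G : Over (Spec (CommRingCat.of R))) [GrpObj G] [Smooth G.hom]
    [QuasiCompact G.hom] [QuasiSeparated G.hom]
    (hconn : ∀ s : Spec (CommRingCat.of R), _root_.IsConnected (G.hom.base ⁻¹' {s}))
    (x : Spec (CommRingCat.of R)) (hx : Q G x) :
    ∃ V : Set (Spec (CommRingCat.of R)), IsOpen V ∧ x ∈ V ∧ ∀ y ∈ V, x ⤳ y → Q G y := by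
  let A := R ⧸ x.asIdeal
  let K := FractionRing A
  let t : Spec (CommRingCat.of A) ⟶ Spec (CommRingCat.of R) :=
    Spec.map (CommRingCat.ofHom (Ideal.Quotient.mk x.asIdeal))
  let e : Spec (CommRingCat.of K) ⟶ Spec (CommRingCat.of A) := Spec.map (CommRingCat.ofHom (algebraMap A K))
  let gp : Spec (CommRingCat.of A) := e (IsLocalRing.closedPoint K)
  have hgp0 : gp.asIdeal = ⊥ := by
    change Ideal.comap (algebraMap A K) (IsLocalRing.maximalIdeal K) = ⊥
    rw [IsLocalRing.maximalIdeal_eq_bot, ← RingHom.ker_eq_comap_bot]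
    exact (RingHom.injective_iff_ker_eq_bot _).mp (IsFractionRing.injective A K)
  have hgp : t gp = x := by
    apply PrimeSpectrum.ext
    change Ideal.comap (Ideal.Quotient.mk x.asIdeal) gp.asIdeal = x.asIdeal
    rw [hgp0, ← RingHom.ker_eq_comap_bot, Ideal.mk_ker]
  have hsm : Smooth (Red.bc t G).hom := MorphismProperty.pullback_snd (P := @Smooth) _ _ inferInstance
  have hqc : QuasiCompact (Red.bc t G).hom := MorphismProperty.pullback_snd (P := @QuasiCompact) _ _ inferInstance
  have hqs : QuasiSeparated (Red.bc t G).hom :=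
    MorphismProperty.pullback_snd (P := @QuasiSeparated) _ _ inferInstance
  have h1 : Q (Red.bc t G) gp := by
    rw [hQ.bc, hgp]
    exact hx
  have h2 : IsAffine (pullback (Red.bc t G).hom e) :=
    isAffine_pullback_of_fibre (Red.bc t G).hom e (hQ.aff (Red.bc t G) gp h1)
  obtain ⟨g, hg, haff⟩ := Groth.Agent.Sga3B.LocLim789.exists_isAffineOpen (M := nonZeroDivisors A) K
    (Red.bc t G).hom h2
  let W : (Spec (CommRingCat.of A)).Opens := PrimeSpectrum.basicOpen g
  have hW : IsAffineOpen W := IsAffineOpen.Spec_basicOpen (R := CommRingCat.of A) g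
  have hWaff : IsAffine W := hW
  have h3 : IsAffine (Red.bc W.ι (Red.bc t G)).left := by
    have h31 : (pullback.fst (Red.bc t G).hom W.ι).opensRange = (Red.bc t G).hom ⁻¹ᵁ W := by
      ext z
      change z ∈ Set.range (pullback.fst (Red.bc t G).hom W.ι) ↔ _
      rw [Scheme.Pullback.range_fst, Scheme.Opens.range_ι]
      rfl
    have h32 : IsAffineOpen (pullback.fst (Red.bc t G).hom W.ι).opensRange := by
      rw [h31]
      exact haff
    have h33 : IsAffine (pullback.fst (Red.bc t G).hom W.ι).opensRange := h32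
    exact .of_isIso (pullback.fst (Red.bc t G).hom W.ι).isoOpensRange.hom
  have h4 : IsAffineHom (Red.bc W.ι (Red.bc t G)).hom := inferInstance
  have h5 : Smooth (Red.bc W.ι (Red.bc t G)).hom := MorphismProperty.pullback_snd (P := @Smooth) _ _ inferInstance
  have h6 := hQ.opn (Red.bc W.ι (Red.bc t G)) (isConnected_fibre_bc W.ι _ (isConnected_fibre_bc t G hconn))
  have h7 : IsOpen (W.ι '' {s | Q (Red.bc W.ι (Red.bc t G)) s}) := W.ι.isOpenEmbedding.isOpenMap _ h6
  have ht : IsClosedImmersion t := IsClosedImmersion.spec_of_surjective _ Ideal.Quotient.mk_surjective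
  obtain ⟨V, hV, hVt⟩ := t.isClosedEmbedding.isInducing.isOpen_iff.mp h7
  refine ⟨V, hV, ?_, fun y hy hxy => ?_⟩
  · have hW' : gp ∈ W := by
      change g ∉ gp.asIdeal
      rw [hgp0]
      exact nonZeroDivisors.ne_zero hg
    have h8 : gp ∈ t ⁻¹' V := by
      rw [hVt]
      refine ⟨⟨gp, hW'⟩, ?_, rfl⟩
      change Q _ _
      rw [hQ.bc]
      exact h1
    rw [← hgp]
    exact h8
  · obtain ⟨z, rfl⟩ : y ∈ Set.range t := by
      change y ∈ Set.range (PrimeSpectrum.comap (Ideal.Quotient.mk x.asIdeal))
      rw [range_comap_of_surjective _ _ Ideal.Quotient.mk_surjective, Ideal.mk_ker]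
      exact (PrimeSpectrum.le_iff_specializes _ _).mpr hxy
    have h8 : z ∈ t ⁻¹' V := hy
    rw [hVt] at h8
    obtain ⟨w, hw, rfl⟩ := h8
    have h9 : Q (Red.bc W.ι (Red.bc t G)) w := hw
    rw [hQ.bc, hQ.bc] at h9
    exact h9

include hQ in
/-- **Openness of the locus**, affine base. -/
theorem isOpen_spec {R : Type u} [CommRing R] [IsNoetherianRing R] (G : Over (Spec (CommRingCat.of R))) [GrpObj G]
    [Smooth G.hom] [QuasiCompact G.hom] [QuasiSeparated G.hom]
    (hconn : ∀ s : Spec (CommRingCat.of R), _root_.IsConnected (G.hom.base ⁻¹' {s}))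
    (hdvr : ∀ (O : Type u) [CommRing O] [IsDomain O] [IsDiscreteValuationRing O]
      (t : Spec (CommRingCat.of O) ⟶ Spec (CommRingCat.of R)),
      Q G (t (IsLocalRing.closedPoint O)) → IsAffine (Red.bc t G).left) :
    IsOpen {s | Q G s} := by
  have : TopologicalSpace.NoetherianSpace (Spec (CommRingCat.of R)) :=
    inferInstanceAs (TopologicalSpace.NoetherianSpace (PrimeSpectrum R))
  refine Groth.Agent.FlatA.NagataOpen.isOpen_of_nagata _ (fun x y hxy hy => ?_) fun x hx => ?_
  · exact of_specializes hQ G hconn hdvr x y hxy hy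
  · exact exists_open hQ G hconn x hx

include hQ in
/-- **Openness of the locus.** -/
theorem isOpen [IsLocallyNoetherian S] (G : Over S) [GrpObj G] [Smooth G.hom] [QuasiCompact G.hom]
    [QuasiSeparated G.hom] (hconn : ∀ s : S, _root_.IsConnected (G.hom.base ⁻¹' {s}))
    (hdvr : ∀ (O : Type u) [CommRing O] [IsDomain O] [IsDiscreteValuationRing O] (t : Spec (CommRingCat.of O) ⟶ S),
      Q G (t (IsLocalRing.closedPoint O)) → IsAffine (Red.bc t G).left) : IsOpen {s | Q G s} := by
  rw [isOpen_iff_forall_mem_open]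
  intro s hs
  let i := S.affineCover.idx s
  obtain ⟨z, hz⟩ := S.affineCover.covers s
  let R : CommRingCat.{u} := Γ(S.affineCover.X i, ⊤)
  let q : Spec R ⟶ S := (S.affineCover.X i).isoSpec.inv ≫ S.affineCover.f i
  have hq : IsOpenImmersion q := inferInstance
  have hN : IsLocallyNoetherian (Spec R) := isLocallyNoetherian_of_isOpenImmersion q
  have hN' : IsNoetherianRing (R : Type u) :=
    (isLocallyNoetherian_Spec (R := CommRingCat.of (R : Type u))).mp hN
  have h1 : Smooth (Red.bc q G).hom := MorphismProperty.pullback_snd (P := @Smooth) _ _ inferInstance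
  have h2 : QuasiCompact (Red.bc q G).hom := MorphismProperty.pullback_snd (P := @QuasiCompact) _ _ inferInstance
  have h3 : QuasiSeparated (Red.bc q G).hom :=
    MorphismProperty.pullback_snd (P := @QuasiSeparated) _ _ inferInstance
  have h4 : IsOpen {s | Q (Red.bc q G) s} :=
    @isOpen_spec @Q hQ (R : Type u) _ hN' (Red.bc q G) _ h1 h2 h3 (isConnected_fibre_bc q G hconn)
      fun O _ _ _ t ht => by
        have h5 : IsAffine (Red.bc (t ≫ q) G).left := hdvr O (t ≫ q) (by
          rw [Scheme.Hom.comp_apply]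
          exact (hQ.bc q G _).1 ht)
        let e : Red.bc (t ≫ q) G ≅ Red.bc t (Red.bc q G) :=
          (Grp.forget _).mapIso (Groth.Agent.Sga3B.BcIso.bcCompIso t q G)
        have h6 : IsIso e.inv.left := inferInstanceAs (IsIso ((Over.forget _).mapIso e).inv)
        exact .of_isIso e.inv.left
  refine ⟨q '' {s | Q (Red.bc q G) s}, ?_, q.isOpenEmbedding.isOpenMap _ h4, ?_⟩
  · rintro _ ⟨y, hy, rfl⟩
    exact (hQ.bc q G y).1 hy
  · have h6 : q ((S.affineCover.X i).isoSpec.hom z) = s := by
      rw [← Scheme.Hom.comp_apply]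
      change ((S.affineCover.X i).isoSpec.hom ≫ (S.affineCover.X i).isoSpec.inv ≫ S.affineCover.f i) z = s
      rw [Iso.hom_inv_id_assoc]
      exact hz
    refine ⟨(S.affineCover.X i).isoSpec.hom z, (hQ.bc q G _).2 ?_, h6⟩
    rw [h6]
    exact hs

end Groth.Agent.Sga3.H816.LocusOpen
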