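import Groth.Agent.S2335
import Groth.Agent.Sga3.H804.DimOne
import Groth.Agent.Sga3.H816.AffFibStage
import Groth.Agent.Sga3B.RedBc892U

/-!
# Quasi-finite homomorphisms from groups with reductive fibres are finite

`S` a locally noetherian scheme, `G` a smooth separated quasi-compact `S`-group with reductive geometric fibres (not
assumed affine), `f : G ⟶ H` a locally quasi-finite homomorphism to an affine `S`-group of finite type.  By the
discrete valuation ring criterion `f` is finite as soon as this holds pointwise over discrete valuation rings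
(`DProp`); hence `G` is affine, i.e. reductive.
-/

set_option autoImplicit false
open CategoryTheory MonoidalCategory CartesianMonoidalCategory MonObj GrpObj AlgebraicGeometry CategoryTheory.Limits
universe u

namespace Groth.Agent.Sga3.H816.RedFinite

variable {S : Scheme.{u}}

/-- The image of the geometric point over `s` is `s`. -/
theorem range_geomPt (s : S) : Set.range (Red.geomPt s) = {s} := by
  have h1 : ∀ y, Red.geomPt s y = s := fun y => by
    have h2 : Red.geomPt s y ∈ Set.range (S.fromSpecResidueField s) := by
      rw [Red.geomPt, Scheme.Hom.comp_apply]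
      exact ⟨_, rfl⟩
    rwa [Scheme.range_fromSpecResidueField] at h2
  apply Set.Subset.antisymm
  · rintro _ ⟨y, rfl⟩
    exact h1 y
  · rintro _ rfl
    exact ⟨IsLocalRing.closedPoint _, h1 _⟩

/-- Connected geometric fibres give connected fibres. -/
theorem isConnected_fibre (G : Over S) (s : S) (h : ConnectedSpace (Red.geomFibre s G).left) :
    _root_.IsConnected (G.hom.base ⁻¹' {s}) := by
  have h1 : Set.range (pullback.fst G.hom (Red.geomPt s)) = G.hom.base ⁻¹' {s} := by
    rw [Scheme.Pullback.range_fst, range_geomPt]
  rw [← h1]
  have h3 : ConnectedSpace ↥(pullback G.hom (Red.geomPt s)) := h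
  exact isConnected_range (pullback.fst G.hom (Red.geomPt s)).continuous

/-- Affine geometric fibres give affine fibres. -/
theorem isAffine_fibre (G : Over S) (s : S) (h : IsAffine (Red.geomFibre s G).left) :
    IsAffine (pullback G.hom (S.fromSpecResidueField s)) := by
  let K := AlgebraicClosure (S.residueField s)
  let e : Spec (CommRingCat.of K) ⟶ Spec (S.residueField s) :=
    Spec.map (CommRingCat.ofHom (algebraMap (S.residueField s) K))
  have h1 : IsPullback (pullback.fst (pullback.snd G.hom (S.fromSpecResidueField s)) e ≫
      pullback.fst G.hom (S.fromSpecResidueField s)) (pullback.snd (pullback.snd G.hom _) e) G.hom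
      (e ≫ S.fromSpecResidueField s) :=
    (IsPullback.of_hasPullback _ e).paste_horiz (IsPullback.of_hasPullback G.hom _)
  have h2 : IsAffine (pullback (pullback.snd G.hom (S.fromSpecResidueField s)) e) := by
    have h3 : IsAffine (pullback G.hom (e ≫ S.fromSpecResidueField s)) := h
    exact .of_isIso h1.isoPullback.hom
  have h4 : IsAffineHom (pullback.snd (pullback.snd G.hom (S.fromSpecResidueField s)) e) := inferInstance
  have := Etbase.FpqcDescent.descendsAlong_isAffineHom.{u}
  have hs : Surjective e := Groth.Agent.Sga3B.RedBc892.surjective_of_field e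
  have hf : Flat e := inferInstance
  have h5 : IsAffineHom (pullback.snd G.hom (S.fromSpecResidueField s)) :=
    MorphismProperty.of_pullback_snd_of_descendsAlong (P := @IsAffineHom)
      (Q := @Surjective ⊓ @Flat ⊓ @QuasiCompact) ⟨⟨hs, hf⟩, inferInstance⟩ h4
  exact isAffine_of_isAffineHom (pullback.snd G.hom (S.fromSpecResidueField s))

/-- Over a discrete valuation ring, smooth quasi-compact groups with reductive geometric fibres are reductive. -/
theorem isReductive_dvr {O : Type u} [CommRing O] [IsDomain O] [IsDiscreteValuationRing O]
    (G : Over (Spec (CommRingCat.of O))) [GrpObj G] [Smooth G.hom] [QuasiCompact G.hom]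
    (hG : ∀ s, Red.IsReductiveOver (AlgebraicClosure ((Spec (CommRingCat.of O)).residueField s)) (Red.geomFibre s G)) :
    Red.IsReductive G := by
  have haff : ∀ s, IsAffine (pullback G.hom ((Spec (CommRingCat.of O)).fromSpecResidueField s)) := fun s =>
    isAffine_fibre G s (hG s).1
  have hconn : ∀ s : Spec (CommRingCat.of O), _root_.IsConnected (G.hom.base ⁻¹' {s}) := fun s =>
    isConnected_fibre G s (hG s).2.2.1
  have hgi : GeometricallyIrreducible G.hom :=
    @Groth.Agent.Sga3C.GrpIrr.geometricallyIrreducible_of_connected_fibres _ _ G.hom _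
      (inferInstanceAs (GrpObj G)) hconn
  have h1 : IsAffine G.left := Groth.Agent.Sga3B.AffDvrGrp789.isAffine_dvr G
    (Groth.Agent.Sga3.H804.DimOne.affFib_of_fibres G.hom haff)
  exact ⟨inferInstance, inferInstance, hG⟩

/-- The lifting property of `f` over discrete valuation rings. -/
def LiftProp {G H : Over S} [GrpObj G] (f : G ⟶ H) : Prop :=
  ∀ (O : Type u) [CommRing O] [IsDomain O] [IsDiscreteValuationRing O]
    (x : Spec (CommRingCat.of (FractionRing O)) ⟶ G.left) (y : Spec (CommRingCat.of O) ⟶ H.left),
    x ≫ f.left = Spec.map (CommRingCat.ofHom (algebraMap O (FractionRing O))) ≫ y →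
    Red.IsReductive (Red.bc (y ≫ H.hom) G) →
    ∃ l : Spec (CommRingCat.of O) ⟶ G.left, Spec.map (CommRingCat.ofHom (algebraMap O (FractionRing O))) ≫ l = x

/-- Morphisms from the spectrum of a domain to a separated scheme are determined at the generic point. -/
theorem eq_of_generic {O : Type u} [CommRing O] [IsDomain O] {X : Scheme.{u}} [X.IsSeparated]
    (a b : Spec (CommRingCat.of O) ⟶ X)
    (h : Spec.map (CommRingCat.ofHom (algebraMap O (FractionRing O))) ≫ a =
      Spec.map (CommRingCat.ofHom (algebraMap O (FractionRing O))) ≫ b) : a = b := by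
  have hdom : IsDominant (Spec.map (CommRingCat.ofHom (algebraMap O (FractionRing O)))) := by
    refine ⟨?_⟩
    change DenseRange (PrimeSpectrum.comap (algebraMap O (FractionRing O)))
    rw [PrimeSpectrum.denseRange_comap_iff_ker_le_nilRadical,
      (RingHom.injective_iff_ker_eq_bot _).mp (IsFractionRing.injective O (FractionRing O))]
    exact bot_le
  exact ext_of_isDominant_of_isSeparated (terminal.from X) (by simp) _ h

/-- **Quasi-finite homomorphisms from a group with reductive fibres to an affine group are finite** (over a separated
locally noetherian base). -/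
theorem isFinite [IsLocallyNoetherian S] [S.IsSeparated] (G H : Over S) [GrpObj G] [Smooth G.hom]
    [IsSeparated G.hom] [QuasiCompact G.hom] [IsAffineHom H.hom] [LocallyOfFiniteType H.hom]
    (hG : ∀ s : S, Red.IsReductiveOver (AlgebraicClosure (S.residueField s)) (Red.geomFibre s G))
    (f : G ⟶ H) [LocallyQuasiFinite f.left] (hf : LiftProp f) : IsFinite f.left := by
  have hw : f.left ≫ H.hom = G.hom := Over.w f
  have hLN : IsLocallyNoetherian H.left := LocallyOfFiniteType.isLocallyNoetherian H.hom
  have hft : LocallyOfFiniteType f.left := by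
    have : LocallyOfFiniteType (f.left ≫ H.hom) := by rw [hw]; infer_instance
    exact locallyOfFiniteType_of_comp f.left H.hom
  have hqc : QuasiCompact f.left := by
    have : QuasiCompact (f.left ≫ H.hom) := by rw [hw]; infer_instance
    exact QuasiCompact.of_comp f.left H.hom
  have hsepG : G.left.IsSeparated := ⟨by rw [← terminal.comp_from G.hom]; infer_instance⟩
  have hsepH : H.left.IsSeparated := ⟨by rw [← terminal.comp_from H.hom]; infer_instance⟩
  have hprop : IsProper f.left := by
    rw [Groth.Agent.S2335.result f.left]
    intro A _ _ _ x y hxy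
    have hred : Red.IsReductive (Red.bc (y ≫ H.hom) G) := by
      have h1 : Smooth (Red.bc (y ≫ H.hom) G).hom := MorphismProperty.pullback_snd (P := @Smooth) _ _ inferInstance
      have h2 : QuasiCompact (Red.bc (y ≫ H.hom) G).hom :=
        MorphismProperty.pullback_snd (P := @QuasiCompact) _ _ inferInstance
      exact isReductive_dvr _ fun t => (Groth.Agent.Sga3B.RedBc892U.isReductiveOver_geomFibre_bc_iff _ t).2 (hG _)
    obtain ⟨l, hl⟩ := hf A x y hxy hred
    refine ⟨l, ⟨?_, hl⟩, fun l' hl' => ?_⟩
    · apply eq_of_generic
      rw [← Category.assoc, hl, hxy]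
    · apply eq_of_generic
      rw [hl'.2, hl]
  exact (IsFinite.iff_isProper_and_locallyQuasiFinite f.left).mpr ⟨hprop, inferInstance⟩

/-- The group is then affine, hence reductive. -/
theorem isReductive [IsLocallyNoetherian S] [S.IsSeparated] (G H : Over S) [GrpObj G] [Smooth G.hom]
    [IsSeparated G.hom] [QuasiCompact G.hom] [IsAffineHom H.hom] [LocallyOfFiniteType H.hom]
    (hG : ∀ s : S, Red.IsReductiveOver (AlgebraicClosure (S.residueField s)) (Red.geomFibre s G))
    (f : G ⟶ H) [LocallyQuasiFinite f.left] (hf : LiftProp f) : Red.IsReductive G := by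
  have h1 := isFinite G H hG f hf
  have h2 : IsAffineHom (f.left ≫ H.hom) := inferInstance
  rw [Over.w f] at h2
  exact ⟨h2, inferInstance, hG⟩

end Groth.Agent.Sga3.H816.RedFinite
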