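import Groth.Agent.Sga3B.KerGrp
import Groth.Agent.Sga3B.RadOpen.Isolated
import Groth.Agent.Books.AlgPts
import Groth.Agent.Sga3.H816.RedFinite

/-!
# Quasi-finiteness of a homomorphism near a point of the base

`f : G ⟶ H` a homomorphism of `S`-groups of finite type, `s` a point of `S` such that the kernel of `f` on a geometric
fibre over `s` is discrete. Then `f` is locally quasi-finite over an open neighbourhood of `s`.
-/

set_option autoImplicit false
open CategoryTheory MonoidalCategory CartesianMonoidalCategory MonObj GrpObj AlgebraicGeometry CategoryTheory.Limits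
universe u

namespace Groth.Agent.Sga3.H816.QfNhd

open Groth.Agent.Books.AlgPts Groth.Agent.Sga3B.KerGrp Groth.Agent.Sga3B.RadOpen

section discrete

variable {K : Type u} [Field K] (N : Over (Spec (CommRingCat.of K))) [GrpObj N]

/-- Left translation by a rational point. -/
noncomputable def trans (x : 𝟙_ (Over (Spec (CommRingCat.of K))) ⟶ N) : N ≅ N where
  hom := (toUnit N ≫ x) * 𝟙 N
  inv := (toUnit N ≫ x)⁻¹ * 𝟙 N
  hom_inv_id := by
    rw [MonObj.comp_mul, GrpObj.comp_inv, comp_toUnit_assoc, Category.comp_id, inv_mul_cancel_left]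
  inv_hom_id := by
    rw [MonObj.comp_mul, comp_toUnit_assoc, Category.comp_id, mul_inv_cancel_left]

theorem one_trans (x : 𝟙_ (Over (Spec (CommRingCat.of K))) ⟶ N) : η[N] ≫ (trans N x).hom = x := by
  change η[N] ≫ ((toUnit N ≫ x) * 𝟙 N) = x
  rw [MonObj.comp_mul, comp_toUnit_assoc, Category.comp_id, one_eq_one, _root_.mul_one,
    toUnit_unique (toUnit _) (𝟙 _), Category.id_comp]

/-- A group scheme locally of finite type over an algebraically closed field whose unit is isolated is discrete. -/
theorem discreteTopology_of_isOpen [IsAlgClosed K] [LocallyOfFiniteType N.hom] (h : IsOpen {pt η[N]}) :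
    DiscreteTopology N.left := by
  have h1 : ∀ x : 𝟙_ (Over (Spec (CommRingCat.of K))) ⟶ N, IsOpen {pt x} := fun x => by
    have h2 : (trans N x).hom.left (pt η[N]) = pt x := by
      rw [← pt_comp, one_trans]
    have h3 : IsIso (trans N x).hom.left := inferInstanceAs (IsIso ((Over.forget _).mapIso (trans N x)).hom)
    have h4 := (trans N x).hom.left.homeomorph.isOpenMap _ h
    have h5 : (trans N x).hom.left.homeomorph '' {pt η[N]} = {pt x} := by
      rw [Set.image_singleton, ← h2]
      rfl
    rwa [h5] at h4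
  refine discreteTopology_iff_isOpen_singleton.mpr fun z => ?_
  obtain ⟨x, hx⟩ := exists_pt_mem (X := N) (U := closure {z}) ⟨z, subset_closure rfl⟩
    isClosed_closure.isLocallyClosed
  obtain ⟨w, hw1, hw2⟩ := mem_closure_iff.mp hx _ (h1 x) rfl
  have : pt x = z := hw1.symm.trans hw2
  rw [← this]
  exact h1 x

end discrete

section ker

variable {S S' : Scheme.{u}} {G H : Over S} [GrpObj G] [GrpObj H]

/-- Kernels commute with base change. -/
theorem isPullback_ker_bc (q : S' ⟶ S) (u : G ⟶ H) :
    IsPullback ((Over.pullback q).map (kerι u)) (toUnit _) ((Over.pullback q).map u) η[Red.bc q H] := by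
  have h := (isPullback_ker u).map (Over.pullback q)
  have ht : ∀ {X : Over S'} (a b : X ⟶ (Over.pullback q).obj (𝟙_ (Over S))), a = b := fun a b => by
    rw [← cancel_mono (inv (Functor.LaxMonoidal.ε (Over.pullback q)))]
    exact toUnit_unique _ _
  let e : (Over.pullback q).obj (𝟙_ (Over S)) ≅ 𝟙_ (Over S') :=
    { hom := toUnit _
      inv := Functor.LaxMonoidal.ε (Over.pullback q)
      hom_inv_id := ht _ _
      inv_hom_id := toUnit_unique _ _ }
  refine IsPullback.of_iso h (Iso.refl _) (Iso.refl _) e (Iso.refl _) ?_ ?_ ?_ ?_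
  · simp
  · exact toUnit_unique _ _
  · simp
  · rw [Iso.refl_hom, Category.comp_id, ← cancel_epi e.inv, Iso.inv_hom_id_assoc]
    rfl

/-- The kernel of the base change. -/
noncomputable def kerBc (q : S' ⟶ S) (u : G ⟶ H) :
    kerObj ((Over.pullback q).map u) ≅ (Over.pullback q).obj (kerObj u) :=
  (isPullback_ker ((Over.pullback q).map u)).isoIsPullback _ _ (isPullback_ker_bc q u)

end ker

section nhd

/-- The closed point of the geometric point over `s` maps to `s`. -/
theorem geomPt_closedPoint {S : Scheme.{u}} (s : S) :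
    Red.geomPt s (IsLocalRing.closedPoint (AlgebraicClosure (S.residueField s))) = s := by
  have h : Red.geomPt s (IsLocalRing.closedPoint (AlgebraicClosure (S.residueField s))) ∈
      Set.range (Red.geomPt s) := ⟨_, rfl⟩
  rwa [Groth.Agent.Sga3.H816.RedFinite.range_geomPt] at h

variable {S : Scheme.{u}} (N : Over S) [GrpObj N] [LocallyOfFiniteType N.hom]

omit [LocallyOfFiniteType N.hom] in
/-- The unit section of a base change. -/
theorem eta_bc {S' : Scheme.{u}} (t : S' ⟶ S) :
    (η[Red.bc t N] : 𝟙_ _ ⟶ Red.bc t N).left ≫ pullback.fst N.hom t = t ≫ (η[N] : 𝟙_ (Over S) ⟶ N).left := by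
  change ((Functor.LaxMonoidal.ε (Over.pullback t)).left ≫ ((Over.pullback t).map η[N]).left) ≫ _ = _
  have a : ((Over.pullback t).map η[N]).left ≫ pullback.fst N.hom t =
      pullback.fst (𝟙_ (Over S)).hom t ≫ (η[N] : 𝟙_ (Over S) ⟶ N).left := pullback.lift_fst _ _ _
  have b : (Functor.LaxMonoidal.ε (Over.pullback t)).left ≫ pullback.fst (𝟙_ (Over S)).hom t = t := by
    have c : pullback.fst (𝟙_ (Over S)).hom t = pullback.snd (𝟙_ (Over S)).hom t ≫ t := by
      rw [← pullback.condition]
      exact (Category.comp_id _).symm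
    have d : (Functor.LaxMonoidal.ε (Over.pullback t)).left ≫ pullback.snd (𝟙_ (Over S)).hom t = 𝟙 _ :=
      Over.w (Functor.LaxMonoidal.ε (Over.pullback t))
    rw [c, ← Category.assoc, d, Category.id_comp]
  rw [Category.assoc, a, ← Category.assoc, b]

omit [LocallyOfFiniteType N.hom] in
/-- Isolated unit on a geometric fibre and on the scheme. -/
theorem isolAt_of_discrete (s : S) {K : Type u} [Field K] (t : Spec (CommRingCat.of K) ⟶ S)
    (hts : t (IsLocalRing.closedPoint K) = s) (hd : DiscreteTopology (Red.bc t N).left) :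
    IsolAt N.hom Set.univ ((η[N] : 𝟙_ (Over S) ⟶ N).left s) := by
  let z : (Red.bc t N).left := pt η[Red.bc t N]
  have hd' : DiscreteTopology ↥(pullback N.hom t) := hd
  have h1 := isolAt_of_pullback N.hom t Set.univ z {z} (isOpen_discrete _) rfl (fun w hw _ => hw)
  have h2 : pullback.fst N.hom t z = (η[N] : 𝟙_ (Over S) ⟶ N).left s := by
    have h3 := eta_bc N t
    change pullback.fst N.hom t ((η[Red.bc t N] : 𝟙_ _ ⟶ Red.bc t N).left (IsLocalRing.closedPoint K)) = _
    rw [← Scheme.Hom.comp_apply, h3, Scheme.Hom.comp_apply, hts]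
  rwa [h2] at h1

/-- If the unit is isolated in its fibre then the geometric fibre is discrete. -/
theorem discrete_of_isolAt {K : Type u} [Field K] [IsAlgClosed K] (t : Spec (CommRingCat.of K) ⟶ S)
    (h : IsolAt N.hom Set.univ ((η[N] : 𝟙_ (Over S) ⟶ N).left (t (IsLocalRing.closedPoint K)))) :
    DiscreteTopology (Red.bc t N).left := by
  have h3 := eta_bc N t
  obtain ⟨O, hO, h1, h2⟩ := pullback_of_isolAt N.hom t Set.univ (η[N] : 𝟙_ (Over S) ⟶ N).left
    (Over.w (η[N] : 𝟙_ (Over S) ⟶ N)) (η[Red.bc t N] : 𝟙_ _ ⟶ Red.bc t N).left h3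
    (Over.w (η[Red.bc t N] : 𝟙_ _ ⟶ Red.bc t N)) h
  have hlft : LocallyOfFiniteType (Red.bc t N).hom :=
    MorphismProperty.pullback_snd (P := @LocallyOfFiniteType) _ _ inferInstance
  apply discreteTopology_of_isOpen
  have h4 : O = {pt η[Red.bc t N]} := by
    apply Set.Subset.antisymm
    · intro w hw
      exact h2 w hw trivial
    · rintro _ rfl
      exact h1
  rw [← h4]
  exact hO

omit [GrpObj N] [LocallyOfFiniteType N.hom] in
/-- Finite geometric fibres. -/
theorem finite_fibre [QuasiCompact N.hom] (s : S) {K : Type u} [Field K] (t : Spec (CommRingCat.of K) ⟶ S)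
    (hts : t (IsLocalRing.closedPoint K) = s) (hd : DiscreteTopology (Red.bc t N).left) :
    (N.hom ⁻¹' {s}).Finite := by
  have hcomp : CompactSpace (Red.bc t N).left := by
    have : QuasiCompact (Red.bc t N).hom := inferInstanceAs (QuasiCompact (pullback.snd _ _))
    exact (quasiCompact_iff_compactSpace _).mp this
  have hfin : Finite ↥(pullback N.hom t) := @finite_of_compact_of_discrete (Red.bc t N).left _ hcomp hd
  refine (Set.finite_range (pullback.fst N.hom t)).subset ?_
  intro x hx
  have hx' : N.hom x = t (IsLocalRing.closedPoint K) := by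
    rw [hts]
    exact hx
  obtain ⟨z, hz, -⟩ := Scheme.Pullback.exists_preimage_pullback (f := N.hom) (g := t) x _ hx'
  exact ⟨z, hz⟩

/-- The locus where the fibres of a group of finite type are finite is open. -/
theorem exists_open [QuasiCompact N.hom] (s : S) {K : Type u} [Field K] (t : Spec (CommRingCat.of K) ⟶ S)
    (hts : t (IsLocalRing.closedPoint K) = s) (hd : DiscreteTopology (Red.bc t N).left) :
    ∃ U : S.Opens, s ∈ U ∧ ∀ y ∈ U, DiscreteTopology (Red.geomFibre y N).left := by
  have h1 := isOpen_setOf_isolAt N.hom (C := Set.univ) isClosed_univ (η[N] : 𝟙_ (Over S) ⟶ N).left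
    (η[N] : 𝟙_ (Over S) ⟶ N).left.continuous (fun _ => trivial)
  refine ⟨⟨_, h1⟩, isolAt_of_discrete N s t hts hd, fun y hy => discrete_of_isolAt N (Red.geomPt y) ?_⟩
  rw [geomPt_closedPoint]
  exact hy

end nhd

/-- **Quasi-finiteness near a point of the base.** -/
theorem exists_open_qf {S : Scheme.{u}} (G H : Over S) [GrpObj G] [GrpObj H] [LocallyOfFiniteType G.hom]
    [QuasiCompact G.hom] [IsSeparated H.hom] (f : G ⟶ H) [IsMonHom f] (s : S) {K : Type u} [Field K]
    (t : Spec (CommRingCat.of K) ⟶ S) (hts : t (IsLocalRing.closedPoint K) = s)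
    (hd : DiscreteTopology (Red.bc t (kerObj f)).left) :
    ∃ U : S.Opens, s ∈ U ∧ LocallyQuasiFinite ((Over.pullback U.ι).map f).left := by
  obtain ⟨_, _⟩ := exists_grpObj f
  have hcl : IsClosedImmersion (kerι f).left := inferInstance
  have hlft : LocallyOfFiniteType (kerObj f).hom := by
    rw [← Over.w (kerι f)]; infer_instance
  have hqc : QuasiCompact (kerObj f).hom := by
    rw [← Over.w (kerι f)]; infer_instance
  obtain ⟨U, hsU, hU⟩ := exists_open (kerObj f) s t hts hd
  refine ⟨U, hsU, ?_⟩
  have h1 : LocallyOfFiniteType (Red.bc U.ι G).hom :=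
    MorphismProperty.pullback_snd (P := @LocallyOfFiniteType) _ _ inferInstance
  have h2 : QuasiCompact (Red.bc U.ι G).hom := MorphismProperty.pullback_snd (P := @QuasiCompact) _ _ inferInstance
  have h3 : IsSeparated (Red.bc U.ι H).hom := MorphismProperty.pullback_snd (P := @IsSeparated) _ _ inferInstance
  have h4 : QuasiCompact ((Over.pullback U.ι).map f).left := by
    have : QuasiCompact (((Over.pullback U.ι).map f).left ≫ (Red.bc U.ι H).hom) := by
      rw [Over.w]; infer_instance
    exact QuasiCompact.of_comp _ (Red.bc U.ι H).hom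
  apply locallyQuasiFinite_of_ker
  let e := kerBc U.ι f
  have h5 : IsIso e.hom.left := inferInstanceAs (IsIso ((Over.forget _).mapIso e).hom)
  have h6 : LocallyOfFiniteType (Red.bc U.ι (kerObj f)).hom :=
    MorphismProperty.pullback_snd (P := @LocallyOfFiniteType) _ _ inferInstance
  have h7 : LocallyQuasiFinite (Red.bc U.ι (kerObj f)).hom := by
    refine LocallyQuasiFinite.of_finite_preimage_singleton _ fun y => ?_
    have h8 : ((kerObj f).hom ⁻¹' {U.ι y}).Finite :=
      finite_fibre (kerObj f) (U.ι y) (Red.geomPt (U.ι y)) (geomPt_closedPoint _) (hU _ y.2)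
    refine Set.Finite.of_finite_image (f := pullback.fst (kerObj f).hom U.ι) (h8.subset ?_)
      (pullback.fst (kerObj f).hom U.ι).isOpenEmbedding.injective.injOn
    rintro _ ⟨z, hz, rfl⟩
    change (kerObj f).hom (pullback.fst (kerObj f).hom U.ι z) = U.ι y
    rw [← Scheme.Hom.comp_apply, pullback.condition, Scheme.Hom.comp_apply]
    exact congrArg U.ι hz
  rw [← Over.w e.hom]
  infer_instance

end Groth.Agent.Sga3.H816.QfNhd
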