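import Groth.Agent.Sga3.H816.RedFinite
import Groth.Agent.Sga3.H806.DvrPt

/-!
# Quasi-finite linear representations of groups with reductive fibres are finite

`S` a separated locally noetherian scheme, `G` a smooth separated quasi-compact `S`-group with reductive geometric
fibres.  If `G` has a locally quasi-finite homomorphism to a general linear group then `G` is affine, hence reductive.
-/

set_option autoImplicit false
open CategoryTheory MonoidalCategory CartesianMonoidalCategory MonObj GrpObj AlgebraicGeometry CategoryTheory.Limits
universe u

namespace Groth.Agent.Sga3.H816.RedFinite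

open Groth.Agent.Sga3B.GLn

variable {S : Scheme.{u}} {G : Over S} [GrpObj G] {m : Type u} [Fintype m] [DecidableEq m]

/-- The lifting property over discrete valuation rings holds for quasi-finite linear representations. -/
theorem liftProp (f : G ⟶ GLS m S) [IsMonHom f] [LocallyOfFiniteType f.left] [QuasiCompact f.left]
    [LocallyQuasiFinite f.left] : LiftProp f := by
  intro O _ _ _ x y hxy hred
  exact Groth.Agent.Sga3.H806.DvrPt.exists_lift f x (y ≫ (GLS m S).hom) (Over.homMk y rfl) hxy hred

/-- **A smooth separated quasi-compact group with reductive geometric fibres and a quasi-finite linear representation is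
reductive.** -/
theorem isReductive_of_rep [IsLocallyNoetherian S] [S.IsSeparated] [Smooth G.hom]
    [IsSeparated G.hom] [QuasiCompact G.hom]
    (hG : ∀ s : S, Red.IsReductiveOver (AlgebraicClosure (S.residueField s)) (Red.geomFibre s G))
    (f : G ⟶ GLS m S) [IsMonHom f] [LocallyQuasiFinite f.left] : Red.IsReductive G := by
  have hw : f.left ≫ (GLS m S).hom = G.hom := Over.w f
  have hft : LocallyOfFiniteType f.left := by
    have : LocallyOfFiniteType (f.left ≫ (GLS m S).hom) := by rw [hw]; infer_instance
    exact locallyOfFiniteType_of_comp f.left (GLS m S).hom
  have hqc : QuasiCompact f.left := by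
    have : QuasiCompact (f.left ≫ (GLS m S).hom) := by rw [hw]; infer_instance
    exact QuasiCompact.of_comp f.left (GLS m S).hom
  exact isReductive G (GLS m S) hG f (liftProp f)

end Groth.Agent.Sga3.H816.RedFinite
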