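import Groth.Agent.Sga3.H816.QfNhd
import Groth.Agent.Sga3.H816.LociMain
import Groth.Agent.Sga3.H816.RedFiniteAff
import Groth.Agent.Sga3.H806.ApproxConn
import Groth.Agent.Sga3B.AdQF
import Groth.Agent.Sga3B.GLn

/-!
# Semisimplicity is an open condition for groups with connected fibres, without affineness

The conclusion of S4126 from the local existence of linear representations with central kernel (`RepCentral`).
-/

set_option autoImplicit false
open CategoryTheory MonoidalCategory CartesianMonoidalCategory MonObj GrpObj AlgebraicGeometry CategoryTheory.Limits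
universe u

namespace Groth.Agent.Sga3.H816.S4126Of

open Groth.Agent.Sga3B Groth.Agent.Sga3B.BcIso Groth.Agent.Sga3B.BcPts Groth.Agent.Sga3B.KerGrp
  Groth.Agent.Sga3B.FreeBC Groth.Agent.Sga3B.AdRep Groth.Agent.Sga3B.DSAffPts Groth.Agent.Sga3.H816.QfNhd
  Groth.Agent.Sga3.H816.LocusOpen

variable {S S' : Scheme.{u}}

/-- `G` is semisimple over an open neighbourhood of `s`. -/
def Near (G : Over S) [GrpObj G] (s : S) : Prop :=
  ∃ (W : Scheme.{u}) (j : W ⟶ S), IsOpenImmersion j ∧ s ∈ Set.range j ∧ Red.IsSemisimple (Red.bc j G)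

theorem near_comp (j : S' ⟶ S) [IsOpenImmersion j] (G : Over S) [GrpObj G] (s' : S') (h : Near (Red.bc j G) s') :
    Near G (j s') := by
  obtain ⟨W, i, hi, ⟨w, hw⟩, hW⟩ := h
  exact ⟨W, i ≫ j, inferInstance, ⟨w, by rw [Scheme.Hom.comp_apply, hw]⟩,
    AlgBc.isSemisimple_of_iso (bcCompIso i j G).symm hW⟩

theorem near_bc (q : S' ⟶ S) (G : Over S) [GrpObj G] (s' : S') (h : Near G (q s')) : Near (Red.bc q G) s' := by
  obtain ⟨W, j, hj, hs, hW⟩ := h
  refine ⟨pullback q j, pullback.fst q j, inferInstance, ?_, ?_⟩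
  · rw [Scheme.Pullback.range_fst]
    exact hs
  · exact AlgBc.isSemisimple_of_iso
      ((bcCompIso (pullback.snd q j) j G).symm ≪≫ bcCongrIso pullback.condition.symm G ≪≫
        bcCompIso (pullback.fst q j) q G)
      (RedBc892U.isSemisimple_bc (pullback.snd q j) hW)

theorem near_of_iso {G G' : Over S} [GrpObj G] [GrpObj G'] (e : Grp.mk G ≅ Grp.mk G') (s : S) (h : Near G s) :
    Near G' s := by
  obtain ⟨W, j, hj, hs, hW⟩ := h
  exact ⟨W, j, hj, hs, AlgBc.isSemisimple_of_iso (bcMapIso j e) hW⟩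

theorem Near.exists_opens {G : Over S} [GrpObj G] {s : S} (h : Near G s) :
    ∃ U : S.Opens, s ∈ U ∧ Red.IsSemisimple (Red.bc U.ι G) := by
  obtain ⟨W, j, hj, hs, hW⟩ := h
  refine ⟨j.opensRange, hs, ?_⟩
  have h1 : j.isoOpensRange.inv ≫ j = j.opensRange.ι := by
    rw [Iso.inv_comp_eq]
    exact (Scheme.Hom.isoOpensRange_hom_ι j).symm
  exact AlgBc.isSemisimple_of_iso ((bcCompIso j.isoOpensRange.inv j G).symm ≪≫ bcCongrIso h1 G)
    (RedBc892U.isSemisimple_bc j.isoOpensRange.inv hW)

/-- Zariski locally there are linear representations with central kernel. -/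
def RepCentral : Prop :=
  ∀ {S : Scheme.{u}} (G : Over S) [GrpObj G] [Smooth G.hom] [QuasiCompact G.hom] [IsSeparated G.hom]
    (_ : ∀ s : S, _root_.IsConnected (G.hom.base ⁻¹' {s})) (s : S),
    ∃ U : S.Opens, s ∈ U ∧ IsAffineOpen U ∧ ∃ (m : Type u) (_ : Fintype m) (_ : DecidableEq m)
      (ρ : Red.bc U.ι G ⟶ GLn.GLS m (U : Scheme.{u})), IsMonHom ρ ∧
        ∀ (X : Over (U : Scheme.{u})) (x y : X ⟶ Red.bc U.ι G), x ≫ ρ = 1 → x * y = y * x

/-- The kernel on a semisimple geometric fibre of a homomorphism with central kernel is discrete. -/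
theorem discrete_ker {G H : Over S} [GrpObj G] [GrpObj H] [IsSeparated H.hom] (f : G ⟶ H) [IsMonHom f]
    (hf : ∀ (X : Over S) (x y : X ⟶ G), x ≫ f = 1 → x * y = y * x)
    {K : Type u} [Field K] [IsAlgClosed K] (t : Spec (CommRingCat.of K) ⟶ S)
    (hs : Red.IsSemisimpleOver K (Red.bc t G)) : DiscreteTopology (Red.bc t (kerObj f)).left := by
  obtain ⟨_, _⟩ := exists_grpObj f
  have hGaff : IsAffine (Red.bc t G).left := hs.1.1
  obtain ⟨A, _, _, ⟨e⟩⟩ := exists_iso_DE (Red.bc t G)
  have hcl : IsClosedImmersion ((Over.pullback t).map (kerι f)).left := isClosedImmersion_bc f t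
  refine SsKer.discreteTopology_of_isSemisimpleOver hs e.hom (η ≫ e.inv) (by simp)
      ((Over.pullback t).map (kerι f)) (isNormalHom_bc f t) fun X x d => ?_
  have key : ∀ y : X ⟶ Red.bc t G, (x ≫ (Over.pullback t).map (kerι f)) * y =
      y * (x ≫ (Over.pullback t).map (kerι f)) := fun y => by
    obtain ⟨x, rfl⟩ := (bcMulEquiv t X (kerObj f)).surjective x
    obtain ⟨y, rfl⟩ := (bcMulEquiv t X G).surjective y
    have h1 : bcMulEquiv t X (kerObj f) x ≫ (Over.pullback t).map (kerι f) =
        bcMulEquiv t X G (x ≫ kerι f) := (bcEquiv_comp t x (kerι f)).symm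
    rw [h1, ← map_mul, ← map_mul, hf _ (x ≫ kerι f) y (by rw [Category.assoc, kerι_comp, MonObj.comp_one])]
  rw [key, mul_inv_cancel_right]

/-- The locally noetherian case in the presence of a quasi-finite homomorphism to an affine group. -/
theorem near_of_qf [IsLocallyNoetherian S] {G H : Over S} [GrpObj G] [GrpObj H] [Smooth G.hom]
    [QuasiCompact G.hom] [IsSeparated G.hom] [IsAffineHom H.hom] [LocallyOfFiniteType H.hom]
    (hconn : ∀ s : S, _root_.IsConnected (G.hom.base ⁻¹' {s})) (f : G ⟶ H) [IsMonHom f] [LocallyQuasiFinite f.left]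
    (s : S) (hs : Red.IsSemisimpleOver (AlgebraicClosure (S.residueField s)) (Red.geomFibre s G)) : Near G s := by
  have hE := LociMain.isOpen_semisimple_of_qf G hconn f
  let E : S.Opens := ⟨_, hE⟩
  refine ⟨E, E.ι, inferInstance, ⟨⟨s, hs⟩, rfl⟩, ?_⟩
  have k1 : Smooth (Red.bc E.ι G).hom := MorphismProperty.pullback_snd (P := @Smooth) _ _ inferInstance
  have k2 : QuasiCompact (Red.bc E.ι G).hom := MorphismProperty.pullback_snd (P := @QuasiCompact) _ _ inferInstance
  have k3 : IsSeparated (Red.bc E.ι G).hom := MorphismProperty.pullback_snd (P := @IsSeparated) _ _ inferInstance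
  have k4 : IsAffineHom (Red.bc E.ι H).hom := MorphismProperty.pullback_snd (P := @IsAffineHom) _ _ inferInstance
  have k5 : LocallyOfFiniteType (Red.bc E.ι H).hom :=
    MorphismProperty.pullback_snd (P := @LocallyOfFiniteType) _ _ inferInstance
  have k6 : LocallyQuasiFinite ((Over.pullback E.ι).map f).left :=
    MorphismProperty.of_isPullback (RedFiniteAff.isPullback_map E.ι f) inferInstance
  have hNE : IsLocallyNoetherian (E : Scheme.{u}) := isLocallyNoetherian_of_isOpenImmersion E.ι
  have hfib : ∀ x : (E : Scheme.{u}), Red.IsSemisimpleOver (AlgebraicClosure ((E : Scheme.{u}).residueField x))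
      (Red.geomFibre x (Red.bc E.ι G)) := fun x =>
    (RedBc892U.isSemisimpleOver_geomFibre_bc_iff E.ι x).2 x.2
  have hred := RedFiniteAff.isReductive_of_qf (fun x => (hfib x).1) ((Over.pullback E.ι).map f)
  exact ⟨hred.1, hred.2.1, hfib⟩

/-- The locally noetherian case in the presence of a homomorphism with central kernel to an affine group. -/
theorem near_of_central [IsLocallyNoetherian S] {G H : Over S} [GrpObj G] [GrpObj H] [Smooth G.hom]
    [QuasiCompact G.hom] [IsSeparated G.hom] [IsAffineHom H.hom] [LocallyOfFiniteType H.hom]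
    (hconn : ∀ s : S, _root_.IsConnected (G.hom.base ⁻¹' {s})) (f : G ⟶ H) [IsMonHom f]
    (hf : ∀ (X : Over S) (x y : X ⟶ G), x ≫ f = 1 → x * y = y * x)
    (s : S) (hs : Red.IsSemisimpleOver (AlgebraicClosure (S.residueField s)) (Red.geomFibre s G)) : Near G s := by
  obtain ⟨V, hsV, hqf⟩ := exists_open_qf G H f s (Red.geomPt s)
    (geomPt_closedPoint s) (discrete_ker f hf (Red.geomPt s) hs)
  have key : Near (Red.bc V.ι G) (⟨s, hsV⟩ : (V : Scheme.{u})) := by
    have j1 : Smooth (Red.bc V.ι G).hom := MorphismProperty.pullback_snd (P := @Smooth) _ _ inferInstance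
    have j2 : QuasiCompact (Red.bc V.ι G).hom := MorphismProperty.pullback_snd (P := @QuasiCompact) _ _ inferInstance
    have j3 : IsSeparated (Red.bc V.ι G).hom := MorphismProperty.pullback_snd (P := @IsSeparated) _ _ inferInstance
    have j4 : IsAffineHom (Red.bc V.ι H).hom := MorphismProperty.pullback_snd (P := @IsAffineHom) _ _ inferInstance
    have j5 : LocallyOfFiniteType (Red.bc V.ι H).hom :=
      MorphismProperty.pullback_snd (P := @LocallyOfFiniteType) _ _ inferInstance
    have hNV : IsLocallyNoetherian (V : Scheme.{u}) := isLocallyNoetherian_of_isOpenImmersion V.ι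
    exact near_of_qf (isConnected_fibre_bc V.ι G hconn) ((Over.pullback V.ι).map f) _
      ((RedBc892U.isSemisimpleOver_geomFibre_bc_iff V.ι (⟨s, hsV⟩ : (V : Scheme.{u}))).2 hs)
  exact near_comp V.ι G _ key

/-- The noetherian case. -/
theorem near_noetherian (hR : RepCentral.{u}) [IsLocallyNoetherian S] (G : Over S) [GrpObj G] [Smooth G.hom]
    [QuasiCompact G.hom] [IsSeparated G.hom] (hconn : ∀ s : S, _root_.IsConnected (G.hom.base ⁻¹' {s})) (s : S)
    (hs : Red.IsSemisimpleOver (AlgebraicClosure (S.residueField s)) (Red.geomFibre s G)) : Near G s := by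
  obtain ⟨U, hsU, -, m, _, _, ρ, hρ, hcen⟩ := hR G hconn s
  have key : Near (Red.bc U.ι G) (⟨s, hsU⟩ : (U : Scheme.{u})) := by
    have i1 : Smooth (Red.bc U.ι G).hom := MorphismProperty.pullback_snd (P := @Smooth) _ _ inferInstance
    have i2 : QuasiCompact (Red.bc U.ι G).hom := MorphismProperty.pullback_snd (P := @QuasiCompact) _ _ inferInstance
    have i3 : IsSeparated (Red.bc U.ι G).hom := MorphismProperty.pullback_snd (P := @IsSeparated) _ _ inferInstance
    have hNU : IsLocallyNoetherian (U : Scheme.{u}) := isLocallyNoetherian_of_isOpenImmersion U.ι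
    exact near_of_central (isConnected_fibre_bc U.ι G hconn) ρ hcen _
      ((RedBc892U.isSemisimpleOver_geomFibre_bc_iff U.ι (⟨s, hsU⟩ : (U : Scheme.{u}))).2 hs)
  exact near_comp U.ι G _ key

/-- Affine neighbourhoods. -/
theorem exists_spec (S : Scheme.{u}) (s : S) :
    ∃ (R : CommRingCat.{u}) (q : Spec R ⟶ S) (s₁ : Spec R), IsOpenImmersion q ∧ q s₁ = s := by
  obtain ⟨z, hz⟩ := S.affineCover.covers s
  refine ⟨Γ(S.affineCover.X (S.affineCover.idx s), ⊤), (S.affineCover.X (S.affineCover.idx s)).isoSpec.inv ≫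
    S.affineCover.f (S.affineCover.idx s), (S.affineCover.X (S.affineCover.idx s)).isoSpec.hom z, inferInstance, ?_⟩
  rw [← Scheme.Hom.comp_apply, Iso.hom_inv_id_assoc]
  exact hz

/-- The affine case. -/
theorem near_affine (hR : RepCentral.{u}) {R : Type u} [CommRing R] (G : Over (Spec (CommRingCat.of R))) [GrpObj G]
    [Smooth G.hom] [QuasiCompact G.hom] [QuasiSeparated G.hom]
    (hconn : ∀ s : Spec (CommRingCat.of R), _root_.IsConnected (G.hom.base ⁻¹' {s})) (s : Spec (CommRingCat.of R))
    (hs : Red.IsSemisimpleOver (AlgebraicClosure ((Spec (CommRingCat.of R)).residueField s)) (Red.geomFibre s G)) :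
    Near G s := by
  obtain ⟨R₀, G₀, _, hfg, h1, h2, h3, h4, ⟨e⟩⟩ := Groth.Agent.Sga3.H806.ApproxConn.exists_noetherian_conn G hconn
  have hnoeth : IsNoetherianRing R₀ := by
    have : Algebra.FiniteType ℤ R₀ := (Subalgebra.fg_iff_finiteType _).mp hfg
    exact Algebra.FiniteType.isNoetherianRing ℤ R₀
  have hLN : IsLocallyNoetherian (Spec (CommRingCat.of R₀)) :=
    (isLocallyNoetherian_Spec (R := CommRingCat.of R₀)).mpr (inferInstanceAs (IsNoetherianRing R₀))
  refine near_of_iso e s (near_bc _ G₀ s ?_)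
  refine near_noetherian hR G₀ h4 _ ((RedBc892U.isSemisimpleOver_geomFibre_bc_iff _ s).1 ?_)
  exact RedIso.isSemisimpleOver_of_iso (bcMapIso (Red.geomPt s) e.symm) hs

/-- **S4126 from `RepCentral`.** -/
theorem main (hR : RepCentral.{u}) (S : Scheme.{u}) (G : Over S) [GrpObj G]
    [Smooth G.hom] [QuasiCompact G.hom] [QuasiSeparated G.hom]
    (hconn : ∀ s : S, _root_.IsConnected (G.hom.base ⁻¹' {s})) (s : S)
    (hs : Red.IsSemisimpleOver (AlgebraicClosure (S.residueField s)) (Red.geomFibre s G)) :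
    ∃ U : S.Opens, s ∈ U ∧ Red.IsSemisimple (Red.bc U.ι G) := by
  apply Near.exists_opens
  obtain ⟨R, q, s₁, hq, rfl⟩ := exists_spec S s
  have i1 : Smooth (Red.bc q G).hom := MorphismProperty.pullback_snd (P := @Smooth) _ _ inferInstance
  have i2 : QuasiCompact (Red.bc q G).hom := MorphismProperty.pullback_snd (P := @QuasiCompact) _ _ inferInstance
  have i3 : QuasiSeparated (Red.bc q G).hom := MorphismProperty.pullback_snd (P := @QuasiSeparated) _ _ inferInstance
  exact near_comp q G s₁ (near_affine hR (R := (R : Type u)) (Red.bc q G) (isConnected_fibre_bc q G hconn) s₁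
    ((RedBc892U.isSemisimpleOver_geomFibre_bc_iff q s₁).2 hs))

end Groth.Agent.Sga3.H816.S4126Of
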