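import Mathlib.RingTheory.TensorProduct.MonoidAlgebra
import Mathlib.RingTheory.Ideal.AssociatedPrime.Finiteness
import Mathlib.RepresentationTheory.Maschke
import Mathlib.RingTheory.Jacobson.Semiprimary
import Mathlib.RingTheory.Flat.Basic
import Mathlib.LinearAlgebra.TensorProduct.Finiteness
import Mathlib.RingTheory.Localization.FractionRing

/-!
# Relative schematic density of torsion subgroups in a diagonalisable group

`N` is a commutative group with a family of homomorphisms `π i : N → P i` to finite groups of order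
invertible in the noetherian ring `A`, which separates the elements of every finite subset of `N`.
For every `A`-module `Q`, an element of `A[N] ⊗ Q` whose images in the `A[P i] ⊗ Q` are killed by powers of
`h ∈ A[N]` is killed by a power of `h`.
-/

set_option autoImplicit false

open TensorProduct

namespace Groth.Agent.Sga3.H816.TorsDense

noncomputable section

universe u v w

variable {ι : Type w} {N : Type v} [CommGroup N] {P : ι → Type v} [∀ i, CommGroup (P i)]

/-- every finite subset is separated by some member of the family -/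
def Sep (π : ∀ i, N →* P i) : Prop := ∀ F : Finset N, ∃ i, Set.InjOn (π i) (F : Set N)

section

variable (A : Type u) [CommRing A] (π : ∀ i, N →* P i)

/-- the map on group algebras -/
abbrev gmap {N' : Type v} [CommGroup N'] (p : N →* N') : MonoidAlgebra A N →ₐ[A] MonoidAlgebra A N' :=
  MonoidAlgebra.mapDomainAlgHom A A p

/-- the map `A[N] ⊗ Q → A[N'] ⊗ Q` -/
abbrev qmap {N' : Type v} [CommGroup N'] (p : N →* N') (Q : Type*) [AddCommGroup Q] [Module A Q] :
    MonoidAlgebra A N ⊗[A] Q →ₗ[A] MonoidAlgebra A N' ⊗[A] Q :=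
  LinearMap.rTensor Q (gmap A p).toLinearMap

lemma qmap_smul {N' : Type v} [CommGroup N'] (p : N →* N') {Q : Type*} [AddCommGroup Q] [Module A Q]
    (h : MonoidAlgebra A N) (x : MonoidAlgebra A N ⊗[A] Q) :
    qmap A p Q (h • x) = gmap A p h • qmap A p Q x := by
  induction x with
  | zero => simp
  | add x y hx hy => rw [smul_add, map_add, hx, hy, map_add, smul_add]
  | tmul b q =>
    rw [smul_tmul', LinearMap.rTensor_tmul, LinearMap.rTensor_tmul, smul_tmul']
    congr 1
    exact map_mul (gmap A p) h b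

lemma lTensor_smul {Q Q' : Type*} [AddCommGroup Q] [Module A Q] [AddCommGroup Q'] [Module A Q'] (f : Q →ₗ[A] Q')
    {N' : Type v} [CommGroup N'] (h : MonoidAlgebra A N') (x : MonoidAlgebra A N' ⊗[A] Q) :
    LinearMap.lTensor _ f (h • x) = h • LinearMap.lTensor _ f x := by
  induction x with
  | zero => simp
  | add x y hx hy => rw [smul_add, map_add, hx, hy, map_add, smul_add]
  | tmul b q => rw [smul_tmul', LinearMap.lTensor_tmul, LinearMap.lTensor_tmul, smul_tmul']

lemma qmap_lTensor {Q Q' : Type*} [AddCommGroup Q] [Module A Q] [AddCommGroup Q'] [Module A Q'] (f : Q →ₗ[A] Q')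
    {N' : Type v} [CommGroup N'] (p : N →* N') (x : MonoidAlgebra A N ⊗[A] Q) :
    qmap A p Q' (LinearMap.lTensor _ f x) = LinearMap.lTensor _ f (qmap A p Q x) := by
  rw [← LinearMap.comp_apply, ← LinearMap.comp_apply, LinearMap.rTensor_comp_lTensor,
    LinearMap.lTensor_comp_rTensor]

/-- The density property for a module. -/
def Dense (Q : Type*) [AddCommGroup Q] [Module A Q] : Prop :=
  ∀ (h : MonoidAlgebra A N) (x : MonoidAlgebra A N ⊗[A] Q),
    (∀ i, ∃ k : ℕ, qmap A (π i) Q (h ^ k • x) = 0) → ∃ k : ℕ, h ^ k • x = 0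

variable {A π}

/-- Group algebras of finite groups of invertible order over a field are reduced. -/
lemma isReduced_of_field {K : Type*} [Field K] {G : Type*} [CommGroup G] [Finite G] (h : (Nat.card G : K) ≠ 0) :
    IsReduced (MonoidAlgebra K G) := by
  have : NeZero (Nat.card G : K) := ⟨h⟩
  have : IsSemisimpleRing (MonoidAlgebra K G) := inferInstance
  infer_instance

/-- separation of elements of a group algebra -/
lemma eq_zero_of_sep {K : Type*} [CommRing K] (hπ : Sep π) (x : MonoidAlgebra K N)
    (hx : ∀ i, gmap K (π i) x = 0) : x = 0 := by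
  classical
  obtain ⟨i, hi⟩ := hπ x.coeff.support
  have h1 := congrArg MonoidAlgebra.coeff (hx i)
  have h2 : Finsupp.mapDomain (π i) x.coeff = 0 := h1
  ext m
  by_cases hm : m ∈ x.coeff.support
  · have h3 := Finsupp.mapDomain_apply' (f := π i) (x.coeff.support : Set N) x.coeff (fun _ h => h) hi hm
    rw [h2] at h3
    exact h3.symm
  · simpa using hm

section field

variable {K : Type*} [Field K]

lemma field_case (hfin : ∀ i, Finite (P i)) (hc : ∀ i, (Nat.card (P i) : K) ≠ 0) (hπ : Sep π)
    (h x : MonoidAlgebra K N) (hx : ∀ i, ∃ k : ℕ, gmap K (π i) (h ^ k * x) = 0) : h * x = 0 := by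
  apply eq_zero_of_sep hπ
  intro i
  obtain ⟨k, hk⟩ := hx i
  have := isReduced_of_field (K := K) (G := P i) (hc i)
  have h1 : (gmap K (π i) (h * x)) ^ (k + 1) = 0 := by
    have : (h * x) ^ (k + 1) = h * x ^ k * (h ^ k * x) := by ring
    rw [← map_pow, this, map_mul, hk, mul_zero]
  exact pow_eq_zero_iff (Nat.succ_ne_zero k) |>.1 h1

end field

/-- comparison with the group algebra over a field -/
lemma exists_toField (C : Type*) [AddCommGroup C] [Module A C] (p : Ideal A) [p.IsPrime] (e : C ≃ₗ[A] A ⧸ p) :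
    ∃ φ : ∀ (N' : Type v) [CommGroup N'], MonoidAlgebra A N' ⊗[A] C →ₗ[A] MonoidAlgebra (FractionRing (A ⧸ p)) N',
      (∀ (N' : Type v) [CommGroup N'], Function.Injective (φ N')) ∧
      (∀ (N' : Type v) [CommGroup N'] (h : MonoidAlgebra A N') (x : MonoidAlgebra A N' ⊗[A] C),
        φ N' (h • x) = MonoidAlgebra.mapAlgHom N' (Algebra.ofId A (FractionRing (A ⧸ p))) h * φ N' x) ∧
      (∀ (N' N'' : Type v) [CommGroup N'] [CommGroup N''] (f : N' →* N'') (x : MonoidAlgebra A N' ⊗[A] C),
        φ N'' (LinearMap.rTensor C (gmap A f).toLinearMap x) = gmap (FractionRing (A ⧸ p)) f (φ N' x)) := by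
  let K := FractionRing (A ⧸ p)
  let ι : C →ₗ[A] K := (IsScalarTower.toAlgHom A (A ⧸ p) K).toLinearMap ∘ₗ e.toLinearMap
  have hι : Function.Injective ι := (IsFractionRing.injective (A ⧸ p) K).comp e.injective
  let ψ (N' : Type v) [CommGroup N'] : MonoidAlgebra A N' ⊗[A] K ≃ₗ[A] MonoidAlgebra K N' :=
    (TensorProduct.comm A _ _).trans ((MonoidAlgebra.scalarTensorEquiv (M := N') A K).toLinearEquiv.restrictScalars A)
  have hψ (N' : Type v) [CommGroup N'] (b : MonoidAlgebra A N') (k : K) :
      ψ N' (b ⊗ₜ k) = k • MonoidAlgebra.mapAlgHom N' (Algebra.ofId A K) b := by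
    show MonoidAlgebra.scalarTensorEquiv A K (k ⊗ₜ b) = _
    rw [MonoidAlgebra.scalarTensorEquiv_tmul]
  refine ⟨fun N' _ => (ψ N').toLinearMap ∘ₗ LinearMap.lTensor _ ι, fun N' _ => ?_, fun N' _ h x => ?_,
    fun N' N'' _ _ f x => ?_⟩
  · exact (ψ N').injective.comp (Module.Flat.lTensor_preserves_injective_linearMap _ hι)
  · induction x with
    | zero => simp
    | add x y hx hy => rw [smul_add, map_add, hx, hy, map_add, mul_add]
    | tmul b c =>
      simp only [LinearMap.comp_apply, smul_tmul', LinearMap.lTensor_tmul, LinearEquiv.coe_coe, hψ, smul_eq_mul,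
        map_mul, Algebra.mul_smul_comm]
      rfl
  · induction x with
    | zero => simp
    | add x y hx hy => rw [map_add, map_add, hx, hy, map_add, map_add]
    | tmul b c =>
      simp only [LinearMap.comp_apply, LinearMap.rTensor_tmul, LinearMap.lTensor_tmul, LinearEquiv.coe_coe, hψ,
        map_smul]
      congr 1
      induction b using MonoidAlgebra.induction_linear with
      | zero => simp
      | add x y hx hy => rw [map_add, map_add, hx, hy, map_add, map_add]
      | single n r => simp

/-- **Density for finite modules over a noetherian ring.** -/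
theorem dense_of_finite [IsNoetherianRing A] (hfin : ∀ i, Finite (P i)) (hc : ∀ i, IsUnit (Nat.card (P i) : A))
    (hπ : Sep π) (Q : Type u) [AddCommGroup Q] [Module A Q] [hQ : Module.Finite A Q] : Dense A π Q := by
  induction hQ using IsNoetherianRing.induction_on_isQuotientEquivQuotientPrime A with
  | subsingleton Q =>
    intro h x _
    exact ⟨0, Subsingleton.elim _ _⟩
  | quotient Q p e =>
    intro h x hx
    obtain ⟨φ, h1, h2, h3⟩ := exists_toField (A := A) Q p.1 e
    refine ⟨1, h1 N ?_⟩
    rw [h2, map_zero, pow_one]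
    refine field_case (π := π) hfin (fun i => ?_) hπ _ _ fun i => ?_
    · have h4 := (hc i).map (algebraMap A (FractionRing (A ⧸ p.1)))
      rw [map_natCast] at h4
      exact h4.ne_zero
    · obtain ⟨k, hk⟩ := hx i
      refine ⟨k, ?_⟩
      have h4 := h3 _ _ (π i) (h ^ k • x)
      rw [h2, map_pow] at h4
      rw [← h4]
      have h5 : LinearMap.rTensor Q (gmap A (π i)).toLinearMap (h ^ k • x) = 0 := hk
      rw [h5, map_zero]
  | exact Q₁ Q₂ Q₃ f g hf hg hfg ih₁ ih₃ =>
    intro h x hx
    obtain ⟨k, hk⟩ := ih₃ h (LinearMap.lTensor _ g x) (fun i => by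
      obtain ⟨k, hk⟩ := hx i
      refine ⟨k, ?_⟩
      rw [← lTensor_smul, qmap_lTensor, hk, map_zero])
    rw [← lTensor_smul] at hk
    obtain ⟨y, hy⟩ := (lTensor_exact (MonoidAlgebra A N) hfg hg _).1 hk
    obtain ⟨l, hl⟩ := ih₁ h y (fun i => by
      obtain ⟨k', hk'⟩ := hx i
      refine ⟨k', ?_⟩
      have hinj : Function.Injective (LinearMap.lTensor (MonoidAlgebra A (P i)) f) :=
        Module.Flat.lTensor_preserves_injective_linearMap _ hf
      apply hinj
      rw [← qmap_lTensor, lTensor_smul, hy, smul_smul, mul_comm, ← smul_smul, qmap_smul, hk', smul_zero, map_zero])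
    refine ⟨l + k, ?_⟩
    rw [pow_add, ← smul_smul, ← hy, ← lTensor_smul, hl, map_zero]

/-- **Density for arbitrary modules over a noetherian ring.** -/
theorem dense [IsNoetherianRing A] (hfin : ∀ i, Finite (P i)) (hc : ∀ i, IsUnit (Nat.card (P i) : A))
    (hπ : Sep π) (Q : Type u) [AddCommGroup Q] [Module A Q] : Dense A π Q := by
  intro h x hx
  obtain ⟨Q', hQ', hx'⟩ := TensorProduct.exists_finite_submodule_right_of_setFinite ({x} : Set _)
    (Set.finite_singleton x)
  obtain ⟨y, rfl⟩ := hx' (Set.mem_singleton x)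
  obtain ⟨k, hk⟩ := dense_of_finite hfin hc hπ Q' h y (fun i => by
    obtain ⟨k', hk'⟩ := hx i
    refine ⟨k', ?_⟩
    have hinj : Function.Injective (LinearMap.lTensor (MonoidAlgebra A (P i)) Q'.subtype) :=
      Module.Flat.lTensor_preserves_injective_linearMap _ Q'.injective_subtype
    apply hinj
    rw [← qmap_lTensor, lTensor_smul, hk', map_zero])
  exact ⟨k, by rw [← lTensor_smul, hk, map_zero]⟩

end

/-- **Descent of functions.** Let `A → A'` be a homomorphism of rings, `A` noetherian, `h ∈ A[N]` and `g ∈ A'[N]`.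
If for all `i` some `h^k g` has image in `A'[P i]` coming from `A[P i]`, then some `h^k g` comes from `A[N]`. -/
theorem exists_of_forall {A : Type u} [CommRing A] [IsNoetherianRing A] {A' : Type u} [CommRing A'] [Algebra A A']
    {π : ∀ i, N →* P i} (hfin : ∀ i, Finite (P i)) (hc : ∀ i, IsUnit (Nat.card (P i) : A)) (hπ : Sep π)
    (h : MonoidAlgebra A N) (g : MonoidAlgebra A' N)
    (H : ∀ i, ∃ (k : ℕ) (b : MonoidAlgebra A (P i)), MonoidAlgebra.mapAlgHom (P i) (Algebra.ofId A A') b =
      gmap A' (π i) (MonoidAlgebra.mapAlgHom N (Algebra.ofId A A') h ^ k * g)) :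
    ∃ (k : ℕ) (b : MonoidAlgebra A N), MonoidAlgebra.mapAlgHom N (Algebra.ofId A A') b =
      MonoidAlgebra.mapAlgHom N (Algebra.ofId A A') h ^ k * g := by
  let Q := A' ⧸ LinearMap.range (Algebra.linearMap A A')
  let f : A' →ₗ[A] Q := Submodule.mkQ _
  have hex : Function.Exact (Algebra.linearMap A A') f := LinearMap.exact_map_mkQ_range _
  have hs : Function.Surjective f := Submodule.mkQ_surjective _
  let ψ (N' : Type v) [CommGroup N'] : MonoidAlgebra A N' ⊗[A] A' ≃ₗ[A] MonoidAlgebra A' N' :=
    (TensorProduct.comm A _ _).trans ((MonoidAlgebra.scalarTensorEquiv (M := N') A A').toLinearEquiv.restrictScalars A)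
  have hψ (N' : Type v) [CommGroup N'] (b : MonoidAlgebra A N') (k : A') :
      ψ N' (b ⊗ₜ k) = k • MonoidAlgebra.mapAlgHom N' (Algebra.ofId A A') b := by
    show MonoidAlgebra.scalarTensorEquiv A A' (k ⊗ₜ b) = _
    rw [MonoidAlgebra.scalarTensorEquiv_tmul]
  have hψs (N' : Type v) [CommGroup N'] (c : MonoidAlgebra A N') (x : MonoidAlgebra A N' ⊗[A] A') :
      ψ N' (c • x) = MonoidAlgebra.mapAlgHom N' (Algebra.ofId A A') c * ψ N' x := by
    induction x with
    | zero => simp
    | add x y hx hy => rw [smul_add, map_add, hx, hy, map_add, mul_add]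
    | tmul b c => rw [smul_tmul', hψ, hψ, smul_eq_mul, map_mul, Algebra.mul_smul_comm]
  have hψq (i : ι) (x : MonoidAlgebra A N ⊗[A] A') :
      ψ (P i) (qmap A (π i) A' x) = gmap A' (π i) (ψ N x) := by
    induction x with
    | zero => simp
    | add x y hx hy => rw [map_add, map_add, hx, hy, map_add, map_add]
    | tmul b c =>
      rw [LinearMap.rTensor_tmul, hψ, hψ, map_smul]
      congr 1
      induction b using MonoidAlgebra.induction_linear with
      | zero => simp
      | add x y hx hy => rw [map_add, map_add, hx, hy, map_add, map_add]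
      | single n r => simp
  have key (N' : Type v) [CommGroup N'] (x : MonoidAlgebra A N' ⊗[A] A') :
      LinearMap.lTensor _ f x = 0 ↔ ∃ b : MonoidAlgebra A N', MonoidAlgebra.mapAlgHom N' (Algebra.ofId A A') b = ψ N' x := by
    constructor
    · intro hx
      obtain ⟨y, rfl⟩ := (lTensor_exact (MonoidAlgebra A N') hex hs _).1 hx
      refine ⟨TensorProduct.rid A _ y, ?_⟩
      clear hx
      induction y with
      | zero => simp
      | add x y hx hy => rw [map_add, map_add, hx, hy, map_add, map_add]
      | tmul b c =>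
        rw [LinearMap.lTensor_tmul, hψ, TensorProduct.rid_tmul, map_smul, Algebra.linearMap_apply, algebraMap_smul]
    · rintro ⟨b, hb⟩
      have : x = LinearMap.lTensor _ (Algebra.linearMap A A') (b ⊗ₜ (1 : A)) := by
        apply (ψ N').injective
        rw [← hb, LinearMap.lTensor_tmul, hψ, Algebra.linearMap_apply, map_one, one_smul]
      rw [this]
      exact (lTensor_exact (MonoidAlgebra A N') hex hs _).2 ⟨_, rfl⟩
  obtain ⟨x, rfl⟩ := (ψ N).surjective g
  obtain ⟨k, hk⟩ := dense hfin hc hπ Q h (LinearMap.lTensor _ f x) (fun i => by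
    obtain ⟨k, b, hb⟩ := H i
    refine ⟨k, ?_⟩
    rw [← lTensor_smul, qmap_lTensor, key]
    refine ⟨b, ?_⟩
    rw [hb, hψq, hψs, map_pow])
  rw [← lTensor_smul, key] at hk
  obtain ⟨b, hb⟩ := hk
  exact ⟨k, b, by rw [hb, hψs, map_pow]⟩

end

end Groth.Agent.Sga3.H816.TorsDense
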