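import Groth.Agent.Sga3B.DimRed879
import Groth.Agent.Sga3B.DiagSmooth
import Groth.Agent.Sga3B.TorusAlgClosed
import Groth.Agent.Sga3B.PtMor

/-!
# The Krull dimension of a split torus over a field
-/

set_option autoImplicit false

open CategoryTheory AlgebraicGeometry Limits TensorProduct
open Groth.Agent.Sga3B.AffTest Groth.Agent.Sga3B.PtData Groth.Agent.Sga3B.PtMor
open Groth.Agent.Sga3B.RootCoact Groth.Agent.Sga3B.RootOrb Groth.Agent.Sga3B.RootGr Groth.Agent.Sga3B.RootCert

namespace Groth.Agent.Sga3.H816.TorusDim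

noncomputable section

universe u

/-- The group algebra of `ℤ^r` over a field has Krull dimension `r`. -/
theorem ringKrullDim_monoidAlgebra (K : Type u) [Field K] (r : ℕ) :
    ringKrullDim (MonoidAlgebra K (Multiplicative (Fin r → ℤ))) = (r : WithBot ℕ∞) := by
  have : IsDomain (MonoidAlgebra K (Multiplicative (Fin r → ℤ))) := inferInstance
  let q : MonoidAlgebra K (Multiplicative (Fin r → ℤ)) →ₐc[K] MonoidAlgebra K (Multiplicative (Fin r → ℤ)) :=
    BialgHom.id K _
  have h0 : ∀ m : Fin r → ℤ, m ≠ 0 → ∀ x ∈ gr (conjCoact q) m, x = 0 := fun m hm x hx =>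
    Groth.Agent.Sga3B.DimWt879.p_gr q hm hx
  have h := Groth.Agent.Sga3B.DimRed879.ringKrullDim_eq (K := K) q (fun x => ⟨x, rfl⟩)
    (fun y hy => by
      have : y = 0 := hy
      rw [this]
      exact zero_mem _)
    (fun m hm x hx hx' => absurd (by rw [h0 m hm x hx]; exact zero_mem _) hx')
    ∅ (fun a => ⟨fun h => absurd h (Finset.notMem_empty _), fun ⟨ha, x, hx, _, hx'⟩ =>
      absurd (by rw [h0 a ha x hx]; exact zero_mem _) hx'⟩)
  rw [h]
  simp

/-- The underlying scheme of a group with a point structure given by characters. -/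
theorem nonempty_iso {R L : Type u} [CommRing R] [CommRing L] [Algebra R L] {N : Type} [CommGroup N]
    {T : Over (Spec (CommRingCat.of L))} [GrpObj T] [IsAffine T.left] (PT : PtStr R (MonoidAlgebra R N) L T) :
    Nonempty (Spec (CommRingCat.of (MonoidAlgebra R N ⊗[R] L)) ≅ T.left) := by
  have := isIso_universal PT
  let := rAlg R L N L
  have := rAlg_tower R L N L
  exact ⟨(Over.forget _).mapIso (asIso (chPt PT (MonoidAlgebra R N ⊗[R] L) (uch R L N)))⟩

/-- The split torus of rank `r` over a field has dimension `r`. -/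
theorem topologicalKrullDim_DS (K : Type u) [Field K] (r : ℕ) :
    topologicalKrullDim ↥(Red.DS (Spec (CommRingCat.of K)) (Fin r → ℤ)).left = (r : WithBot ℕ∞) := by
  have haff : IsAffineHom (Red.DS (Spec (CommRingCat.of K)) (Fin r → ℤ)).hom := by
    change IsAffineHom (Limits.pullback.snd _ _)
    infer_instance
  have : IsAffine (Red.DS (Spec (CommRingCat.of K)) (Fin r → ℤ)).left :=
    isAffine_of_isAffineHom (Red.DS (Spec (CommRingCat.of K)) (Fin r → ℤ)).hom
  obtain ⟨e⟩ := nonempty_iso (dsStr K K (Fin r → ℤ))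
  have h1 : topologicalKrullDim ↥(Red.DS (Spec (CommRingCat.of K)) (Fin r → ℤ)).left =
      ringKrullDim (MonoidAlgebra K (Multiplicative (Fin r → ℤ)) ⊗[K] K) := by
    rw [← PrimeSpectrum.topologicalKrullDim_eq_ringKrullDim]
    exact (IsHomeomorph.topologicalKrullDim_eq _ (Scheme.homeoOfIso e).isHomeomorph).symm
  rw [h1, ← ringKrullDim_monoidAlgebra K r]
  exact ringKrullDim_eq_of_ringEquiv (Algebra.TensorProduct.rid K K
    (MonoidAlgebra K (Multiplicative (Fin r → ℤ)))).toRingEquiv

/-- The dimension of a torus split with character group `ℤ^r` over a field is `r`. -/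
theorem topologicalKrullDim_of_split {K : Type u} [Field K] {r : ℕ}
    {T : Over (Spec (CommRingCat.of K))} [GrpObj T] (h : Red.IsSplitTorusWith (Fin r → ℤ) T) :
    topologicalKrullDim ↥T.left = (r : WithBot ℕ∞) := by
  obtain ⟨e⟩ := h
  rw [← topologicalKrullDim_DS K r]
  let e' : T ≅ Red.DS (Spec (CommRingCat.of K)) (Fin r → ℤ) := (Grp.forget _).mapIso e
  exact IsHomeomorph.topologicalKrullDim_eq _
    (Scheme.homeoOfIso ((Over.forget _).mapIso e')).isHomeomorph

end

end Groth.Agent.Sga3.H816.TorusDim
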